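import Groth.Agent.EllGrp5.Ideal
import Groth.Agent.Clifford24.Sub
import Groth.Agent.Clifford24.DegOnePoint
import Groth.Agent.Clifford24.SmoothFamilyO
import Groth.Agent.CurveRR24.RatPoint
import Groth.Agent.CurveRR24.Degree
import Groth.Agent.CurveRR24.GenusZero
import Groth.Agent.DimLib.OverBridge
import Groth.Agent.AbVarLib.GeomIntegralSmooth
import Groth.Agent.Unram17Lib.RelDim
import Groth.Agent.GenSmoothLib.SmoothDim
import Groth.Agent.DivCurve29.Cartier

/-!
# Genus one curves over a field: degree one modules and rational points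
-/

set_option autoImplicit false
set_option linter.style.haveILetI false
set_option linter.unusedSectionVars false
set_option backward.isDefEq.respectTransparency.types false

universe u

open CategoryTheory CategoryTheory.Limits AlgebraicGeometry Opposite TopologicalSpace
open Groth.Agent.Coherent Groth.Agent.PicLib Groth.Agent.AmpleLib Groth.Agent.EulerLib Groth.Agent.CurveRR24

namespace Groth.Agent.EllGrp5

/-- A smooth connected curve has dimension one. -/
theorem dim_eq_one {k : Type u} [Field k] {X : Scheme.{u}} (q : X ⟶ Spec (CommRingCat.of k))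
    [SmoothOfRelativeDimension 1 q] [IrreducibleSpace X] : topologicalKrullDim X = 1 := by
  obtain ⟨x⟩ := (inferInstance : Nonempty X)
  haveI : Smooth q := SmoothOfRelativeDimension.smooth 1 q
  have h := Unram17Lib.localDim_of_smoothOfRelativeDimension k q 1 x
  rw [GenSmoothLib.localDim_eq_topologicalKrullDim q x] at h
  exact_mod_cast h

variable (k : Type u) [Field k] {X : Scheme.{u}} [X.Over (Spec (CommRingCat.of k))]
  [IsProper (X ↘ Spec (CommRingCat.of k))] [SmoothOfRelativeDimension 1 (X ↘ Spec (CommRingCat.of k))]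
  [GeometricallyConnected (X ↘ Spec (CommRingCat.of k))]

theorem smooth_str : Smooth (X ↘ Spec (CommRingCat.of k)) := SmoothOfRelativeDimension.smooth 1 _

theorem geomIntegral_str : GeometricallyIntegral (X ↘ Spec (CommRingCat.of k)) :=
  haveI := smooth_str k (X := X)
  AbVarLib.geometricallyIntegral_of_smooth _

include k in
theorem isIntegral_curve : AlgebraicGeometry.IsIntegral X :=
  haveI := geomIntegral_str k (X := X)
  GeometricallyIntegral.isIntegral_of_subsingleton (X ↘ (Spec (CommRingCat.of k)))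

include k in
theorem dim_curve : topologicalKrullDim X = 1 :=
  haveI := isIntegral_curve k (X := X)
  dim_eq_one (X ↘ Spec (CommRingCat.of k))

theorem h0_structure : Module.finrank k (Coh.HH X (Coh.structureModule X) 0) = 1 :=
  haveI := geomIntegral_str k (X := X)
  haveI := isIntegral_curve k (X := X)
  h0_structure_of_geomIntegral k

variable (hg : Module.finrank k (Coh.HH X (Coh.structureModule X) 1) = 1)
include hg

theorem deg_eq_euler {N : X.Modules} : Curv2.deg k X N 1 = Curv2.euler k X N := by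
  haveI := isLocallyNoetherian_of_proper k (X := X)
  rw [Curv2.deg, euler_eq_h0_sub_h1 k (dim_curve k (X := X)).le (Coh.structureModule X) isQCoh_structureModule,
    h0_structure k, hg]
  simp

/-- A module of degree one has one section and no `H¹`. -/
theorem h0_h1_of_deg_one {N : X.Modules} (hN : PicF.IsInvertible N) (hd : Curv2.deg k X N 1 = 1) :
    Module.finrank k (Coh.HH X N 0) = 1 ∧ Module.finrank k (Coh.HH X N 1) = 0 := by
  haveI := isIntegral_curve k (X := X)
  haveI := isLocallyNoetherian_of_proper k (X := X)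
  haveI : Subsingleton (Coh.HH X N 1) := subsingleton_h1_of_deg k (dim_curve k (X := X)).le (h0_structure k) hN (by
    rw [hd, Curv2.genus, hg]; norm_num)
  have h1 : Module.finrank k (Coh.HH X N 1) = 0 := Module.finrank_zero_of_subsingleton
  refine ⟨?_, h1⟩
  rw [deg_eq_euler k hg, euler_eq_h0_sub_h1 k (dim_curve k (X := X)).le N (isCoh_of_isInvertible k hN).1, h1] at hd
  omega

theorem deg_of_h0_h1 {N : X.Modules} (hN : PicF.IsInvertible N)
    (h0 : Module.finrank k (Coh.HH X N 0) = 1) (h1 : Module.finrank k (Coh.HH X N 1) = 0) :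
    Curv2.deg k X N 1 = 1 := by
  haveI := isLocallyNoetherian_of_proper k (X := X)
  rw [deg_eq_euler k hg, euler_eq_h0_sub_h1 k (dim_curve k (X := X)).le N (isCoh_of_isInvertible k hN).1, h0, h1]
  simp

omit hg in
theorem deg_idealMod_section (s : Spec (CommRingCat.of k) ⟶ X) (hs : s ≫ (X ↘ Spec (CommRingCat.of k)) = 𝟙 _) :
    Curv2.deg k X (ClSub.idealMod s.ker) 1 = -1 := by
  haveI := isIntegral_curve k (X := X)
  obtain ⟨pt⟩ : Nonempty (Spec (CommRingCat.of k)) := inferInstanceAs (Nonempty (PrimeSpectrum k))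
  rw [ker_section s hs pt, deg_ptIdeal k (isClosed_section_point s hs pt), finrank_resField_section s hs pt]
  norm_num

omit hg in
theorem isEffCartier_section (s : Spec (CommRingCat.of k) ⟶ X) (hs : s ≫ (X ↘ Spec (CommRingCat.of k)) = 𝟙 _) :
    BlowUp.IsEffCartierIdeal s.ker := by
  haveI : IsClosedImmersion (s ≫ (X ↘ Spec (CommRingCat.of k))) := by rw [hs]; infer_instance
  haveI : IsClosedImmersion s := IsClosedImmersion.of_comp s (X ↘ Spec (CommRingCat.of k))
  refine DivCurve29.isEffCartier (X ↘ Spec (CommRingCat.of k)) s.ker ?_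
  have e : s.ker.subschemeι ≫ (X ↘ Spec (CommRingCat.of k)) = inv s.toImage := by
    apply (cancel_epi s.toImage).1
    rw [← Category.assoc]
    simp [hs]
  rw [e]
  exact ⟨inferInstance, inferInstance, inferInstance⟩

omit hg in
theorem exists_section_of_point {P : X} (hb : Function.Bijective (Curv2.resMap k X P)) :
    ∃ s : Spec (CommRingCat.of k) ⟶ X, s ≫ (X ↘ Spec (CommRingCat.of k)) = 𝟙 _ ∧
      ∀ pt, s pt = P := by
  let φ : CommRingCat.of k ⟶ X.residueField P :=
    CommRingCat.ofHom (DimLib.baseRingHom (X ↘ Spec (CommRingCat.of k)) P)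
  haveI : IsIso φ := (ConcreteCategory.isIso_iff_bijective φ).2 (by
    show Function.Bijective (DimLib.baseRingHom (X ↘ Spec (CommRingCat.of k)) P)
    rw [DimLib.baseRingHom_eq_resMap]; exact hb)
  refine ⟨Spec.map (inv φ) ≫ X.fromSpecResidueField P, ?_, fun pt => ?_⟩
  · rw [Category.assoc, ← DimLib.specMap_baseRingHom, ← Spec.map_comp]
    show Spec.map (φ ≫ inv φ) = 𝟙 _
    rw [IsIso.hom_inv_id, Spec.map_id]
  · show X.fromSpecResidueField P _ = P
    exact X.fromSpecResidueField_apply P _

theorem exists_section_deg_one {N : X.Modules} (hN : PicF.IsInvertible N) (hd : Curv2.deg k X N 1 = 1) :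
    ∃ s : Spec (CommRingCat.of k) ⟶ X, s ≫ (X ↘ Spec (CommRingCat.of k)) = 𝟙 _ ∧
      ClSub.IsInverseOf N (ClSub.idealMod s.ker) := by
  haveI := isIntegral_curve k (X := X)
  haveI := smooth_str k (X := X)
  haveI := geomIntegral_str k (X := X)
  obtain ⟨P, hP, hb, ⟨e⟩⟩ := Clifford24.exists_ratPoint_of_deg_one k (dim_curve k (X := X))
    (fun P _ => Clifford24.isIntegrallyClosed_stalk_of_smooth k P) hN hd (h0_h1_of_deg_one k hg hN hd).1
  obtain ⟨s, hs, hsP⟩ := exists_section_of_point k hb
  obtain ⟨pt⟩ : Nonempty (Spec (CommRingCat.of k)) := inferInstanceAs (Nonempty (PrimeSpectrum k))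
  refine ⟨s, hs, ⟨?_⟩⟩
  have hker : s.ker = ptIdeal P hP := by
    rw [ker_section s hs pt]; congr 1; exact hsP pt
  rw [hker]
  exact e

omit hg in
theorem exists_smul_eq {N : X.Modules} (h1 : Module.finrank k (Coh.HH X N 0) = 1) {t t' : Γ(N, ⊤)} (ht : t ≠ 0) :
    ∃ c : k, baseHom k X c • t = t' := by
  let E := hhZero k N
  obtain ⟨c, hc⟩ := exists_smul_eq_of_finrank_eq_one h1
    (x := E.symm t) (fun h => ht (E.symm.map_eq_zero_iff.1 h)) (E.symm t')
  rw [← map_smul] at hc
  exact ⟨c, E.symm.injective hc⟩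

/-- The zero scheme of a nonzero section of a module of degree one is a rational point. -/
theorem exists_section_zeroOf {N : X.Modules} (hN : PicF.IsInvertible N) (hd : Curv2.deg k X N 1 = 1)
    {t : Γ(N, ⊤)} (ht : t ≠ 0) :
    ∃ s : Spec (CommRingCat.of k) ⟶ X, s ≫ (X ↘ Spec (CommRingCat.of k)) = 𝟙 _ ∧ zeroOf N t = s.ker := by
  obtain ⟨s, hs, hNs⟩ := exists_section_deg_one k hg hN hd
  obtain ⟨t₀, ht₀⟩ := exists_section_eq s.ker (isEffCartier_section k s hs) hN hNs
  obtain ⟨c, hc⟩ := exists_smul_eq k (h0_h1_of_deg_one k hg hN hd).1 (t' := t₀) ht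
  refine ⟨s, hs, ?_⟩
  have hc0 : c ≠ 0 := by
    rintro rfl
    rw [map_zero, zero_smul] at hc
    subst hc
    haveI := isIntegral_curve k (X := X)
    obtain ⟨x⟩ := (inferInstance : Nonempty X)
    obtain ⟨U, e, hxU, he⟩ := exists_affine_gen hN x
    have h := zeroOf_ideal hN (0 : Γ(N, ⊤)) U he
    rw [ht₀, he.coef_eq le_rfl (r := 0) (by rw [map_zero, zero_smul]), Ideal.span_singleton_eq_bot.2 rfl] at h
    haveI : Nonempty U.1 := ⟨⟨x, hxU⟩⟩
    exact mem_nonZeroDivisors_iff_ne_zero.1
      (BlowUpLib.mem_nonZeroDivisors_of_eff (isEffCartier_section k s hs) (a := (0 : Γ(X, U.1)))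
        (by rw [h, Ideal.span_singleton_eq_bot.2 rfl])) rfl
  rw [← ht₀, ← hc, zeroOf_smul_isUnit hN ((Ne.isUnit hc0).map _)]

end Groth.Agent.EllGrp5
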