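import Groth.Agent.DivCurve29.Cartier
import Groth.Agent.Inters29.PullIdeal
import Groth.Agent.PicLib.PicMonoid

/-!
# Sections of smooth curves as divisors
-/

set_option autoImplicit false
set_option linter.style.haveILetI false
set_option linter.unusedSectionVars false
set_option backward.isDefEq.respectTransparency.types false

universe u

open CategoryTheory CategoryTheory.Limits AlgebraicGeometry Opposite TopologicalSpace
open Groth.Agent.Coherent Groth.Agent.PicLib Groth.Agent.AmpleLib

namespace Groth.Agent.EllGrp5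

variable {X S : Scheme.{u}} (f : X ⟶ S)

theorem isClosedImmersion_section [IsSeparated f] (P : S ⟶ X) (hP : P ≫ f = 𝟙 S) : IsClosedImmersion P := by
  haveI : IsClosedImmersion (P ≫ f) := by rw [hP]; infer_instance
  exact IsClosedImmersion.of_comp P f

/-- The inverse image of the ideal of a section is the ideal of the pulled back section. -/
theorem comap_ker_section [IsSeparated f] {T XT : Scheme.{u}} {g : T ⟶ S} {g' : XT ⟶ X} {f' : XT ⟶ T}
    (h : IsPullback g' f' f g) (P : S ⟶ X) (hP : P ≫ f = 𝟙 S) (P' : T ⟶ XT) (hP' : P' ≫ f' = 𝟙 T)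
    (e : P' ≫ g' = g ≫ P) : P.ker.comap g' = P'.ker := by
  haveI := isClosedImmersion_section f P hP
  have houter : IsPullback g (P' ≫ f') (P ≫ f) g := by
    rw [hP, hP']
    exact IsPullback.of_id_snd
  have hsq : IsPullback P' g g' P := (IsPullback.of_bot houter e.symm h).flip
  refine (Scheme.IdealSheafData.ker_fst_of_isClosedImmersion P g').symm.trans ?_
  conv_rhs => rw [← hsq.isoPullback_hom_fst]
  rw [Scheme.Hom.ker_comp_of_isIso]

variable [IsSeparated f] [SmoothOfRelativeDimension 1 f]

/-- A section of a smooth curve is an effective Cartier divisor. -/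
theorem isEffCartier_sec (P : S ⟶ X) (hP : P ≫ f = 𝟙 S) : BlowUp.IsEffCartierIdeal P.ker := by
  haveI := isClosedImmersion_section f P hP
  refine DivCurve29.isEffCartier f P.ker ?_
  have e : P.ker.subschemeι ≫ f = inv P.toImage := by
    apply (cancel_epi P.toImage).1
    rw [← Category.assoc]
    simp [hP]
  rw [e]
  exact ⟨inferInstance, inferInstance, inferInstance⟩

/-- The class of the ideal of a section. -/
noncomputable def idl (P : S ⟶ X) (hP : P ≫ f = 𝟙 S) : PicM X :=
  PicM.of (FlatMor12.IdealModGen.isInvertible_idealMod P.ker (isEffCartier_sec f P hP))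

theorem pull_idl {T XT : Scheme.{u}} {g : T ⟶ S} {g' : XT ⟶ X} {f' : XT ⟶ T} [IsSeparated f']
    [SmoothOfRelativeDimension 1 f']
    (h : IsPullback g' f' f g) (P : S ⟶ X) (hP : P ≫ f = 𝟙 S) (P' : T ⟶ XT) (hP' : P' ≫ f' = 𝟙 T)
    (e : P' ≫ g' = g ≫ P) : PicM.pull g' (idl f P hP) = idl f' P' hP' := by
  have hc := comap_ker_section f h P hP P' hP' e
  have hE := isEffCartier_sec f' P' hP'
  rw [idl, idl, PicM.pull_of, PicM.of_eq_iff]
  obtain ⟨eI⟩ := Inters29.nonempty_pullback_idealMod_iso g' P.ker (isEffCartier_sec f P hP) (hc.symm ▸ hE)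
  exact ⟨eI ≪≫ eqToIso (by rw [hc])⟩

end Groth.Agent.EllGrp5
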