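import Groth.Agent.EllGrp5.AlgZero
import Groth.Agent.AbDualLib.FppfGlue

/-!
# The Abel map of a family of genus one curves to Pic⁰
-/

set_option autoImplicit false
set_option linter.style.haveILetI false
set_option linter.unusedSectionVars false
set_option backward.isDefEq.respectTransparency.types false

universe u

open CategoryTheory CategoryTheory.Limits AlgebraicGeometry
open Groth.Agent.PicLib

namespace Groth.Agent.EllGrp5

variable {E S : Scheme.{u}} (f : E ⟶ S) [IsProper f] [SmoothOfRelativeDimension 1 f] [GeometricallyConnected f]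
  (σ : S ⟶ E) (hσ : σ ≫ f = 𝟙 S)

theorem pull_cls {T T' : Over S} (g : T' ⟶ T) (P : T ⟶ Over.mk f) :
    PicM.pull (PicF.XTmap f g) (cls f P) = cls f (g ≫ P) := by
  have h1 : PicF.XTmap f g ≫ pullback.fst f T.hom = pullback.fst f T'.hom := by
    exact (pullback.lift_fst _ _ _).trans (Category.comp_id _)
  have h2 : PicF.XTmap f g ≫ pullback.snd f T.hom = pullback.snd f T'.hom ≫ g.left :=
    pullback.lift_snd _ _ _
  have hsq : IsPullback (PicF.XTmap f g) (pullback.snd f T'.hom) (pullback.snd f T.hom) g.left :=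
    IsPullback.of_right (by rw [h1, Over.w]; exact IsPullback.of_hasPullback f T'.hom) h2
      (IsPullback.of_hasPullback f T.hom)
  refine pull_idl _ hsq _ _ _ _ (pullback.hom_ext ?_ ?_)
  · rw [Category.assoc, h1]
    exact (ptSec_fst _ _ _ _).trans ((congrArg (g.left ≫ ·) (ptSec_fst f T.hom P.left (Over.w P))).symm.trans
      (Category.assoc _ _ _).symm)
  · rw [Category.assoc, h2]
    refine ((Category.assoc _ _ _).symm.trans (congrArg (· ≫ g.left) (ptSec_snd _ _ _ _))).trans ?_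
    exact (Category.id_comp g.left).trans (((Category.comp_id g.left).symm.trans
      (congrArg (g.left ≫ ·) (ptSec_snd f T.hom P.left (Over.w P)).symm)).trans (Category.assoc _ _ _).symm)

theorem one'_precomp {T T' : Over S} (g : T' ⟶ T) : g ≫ one' f σ hσ T = one' f σ hσ T' :=
  Over.OverMorphism.ext (by
    show g.left ≫ T.hom ≫ σ = T'.hom ≫ σ
    rw [← Category.assoc, Over.w])

variable (hg : GenusOne f) {P₀ : Over S} (φ : ∀ T : Over S, PicF.Cl (PicF.XT f T) → (T ⟶ P₀))
  (hP : AbDual.IsRelPicZeroK Scheme.fppfPrecoverage f P₀ φ) (c0 : PicM (pullback f (Over.mk f).hom))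
  (h0 : c0 * cls f (𝟙 (Over.mk f)) = cls f (one' f σ hσ (Over.mk f)))

/-- The class `O(x - σ)`. -/
noncomputable def cx {T : Over S} (x : T ⟶ Over.mk f) : PicM (pullback f T.hom) :=
  PicM.pull (PicF.XTmap f x) c0

include h0

theorem cx_spec {T : Over S} (x : T ⟶ Over.mk f) :
    cx f c0 x * cls f x = cls f (one' f σ hσ T) := by
  have h := congrArg (PicM.pull (PicF.XTmap f x)) h0
  rw [map_mul, pull_cls, pull_cls, Category.comp_id, one'_precomp] at h
  exact h

theorem dg_cx {T : Over S} (x : T ⟶ Over.mk f) (t : T.left) : dg (pullback.snd f T.hom) t (cx f c0 x) = 0 := by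
  have h := congrArg (dg (pullback.snd f T.hom) t) (cx_spec f σ hσ c0 h0 x)
  rw [dg_mul, dg_cls, dg_cls] at h
  omega

theorem isPicZero_c0 : AbDual.IsPicZeroCl f (Over.mk f) c0.val :=
  (isPicZeroCl_iff f (Over.mk f) c0).2 fun t => by
    have h := congrArg (dg (pullback.snd f (Over.mk f).hom) t) h0
    rw [dg_mul, dg_cls, dg_cls] at h
    omega

include hP

theorem comp_abel {T : Over S} (x : T ⟶ Over.mk f) :
    x ≫ φ (Over.mk f) c0.val = φ T (cx f c0 x).val :=
  (hP.natural _ _ x _ (isPicZero_c0 f σ hσ c0 h0)).symm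

include hg

theorem abel_injective {T : Over S} (x x' : T ⟶ Over.mk f)
    (h : x ≫ φ (Over.mk f) c0.val = x' ≫ φ (Over.mk f) c0.val) : x = x' := by
  rw [comp_abel f σ hσ φ hP c0 h0, comp_abel f σ hσ φ hP c0 h0] at h
  obtain ⟨R, hR, hRu⟩ := hP.locallyInjective T _ _
    ((isPicZeroCl_iff f T _).2 (dg_cx f σ hσ c0 h0 x)) ((isPicZeroCl_iff f T _).2 (dg_cx f σ hσ c0 h0 x')) h
  have key : ∀ ⦃U : Scheme.{u}⦄ (u : U ⟶ T.left), R u → AbDual.ovrHom T u ≫ x = AbDual.ovrHom T u ≫ x' := by
    intro U u hu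
    have e : PicM.pull (PicF.XTmap f (AbDual.ovrHom T u)) (cx f c0 x) =
        PicM.pull (PicF.XTmap f (AbDual.ovrHom T u)) (cx f c0 x') := PicM.ext (hRu u hu)
    have h1 := congrArg (PicM.pull (PicF.XTmap f (AbDual.ovrHom T u))) (cx_spec f σ hσ c0 h0 x)
    have h2 := congrArg (PicM.pull (PicF.XTmap f (AbDual.ovrHom T u))) (cx_spec f σ hσ c0 h0 x')
    rw [map_mul, pull_cls, pull_cls, e] at h1
    rw [map_mul, pull_cls, pull_cls] at h2
    refine point_unique f hg (b := 1) ?_
    rw [map_one, mul_one]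
    exact mul_left_cancel (h2.trans h1.symm)
  refine Over.OverMorphism.ext ?_
  have hmem : Sieve.generate R ∈ Scheme.fppfTopology T.left := Precoverage.generate_mem_toGrothendieck hR
  refine ((GrothendieckTopology.Subcanonical.isSheaf_of_isRepresentable (J := Scheme.fppfTopology)
    (yoneda.obj E)) _ hmem).isSeparatedFor.ext ?_
  intro U u hu
  obtain ⟨V, v, w, hw, rfl⟩ := hu
  show (v ≫ w) ≫ x.left = (v ≫ w) ≫ x'.left
  rw [Category.assoc, Category.assoc]
  exact congrArg (v ≫ ·) (congrArg (fun z => Over.Hom.left z) (key w hw))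

omit hg h0

theorem phi_mul_base {T : Over S} (a : PicM (pullback f T.hom))
    (ha : ∀ t, dg (pullback.snd f T.hom) t a = 0) (b : PicM T.left) :
    φ T (a * PicM.pull (pullback.snd f T.hom) b).val = φ T a.val := by
  choose W hsW hW using exists_trivial_nhd b
  refine Over.OverMorphism.ext (Scheme.Cover.hom_ext (T.left.openCoverOfIsOpenCover W
    (top_le_iff.1 fun s _ => TopologicalSpace.Opens.mem_iSup.2 ⟨s, hsW s⟩)) _ _ fun s => ?_)
  show (W s).ι ≫ _ = (W s).ι ≫ _
  have ha' : AbDual.IsPicZeroCl f T a.val := (isPicZeroCl_iff f T a).2 ha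
  have hab : AbDual.IsPicZeroCl f T (a * PicM.pull (pullback.snd f T.hom) b).val :=
    (isPicZeroCl_iff f T _).2 fun t => by rw [dg_mul, ha, dg_pull]; rfl
  let i := AbDual.ovrHom T (W s).ι
  have h2 : PicF.XTmap f i ≫ pullback.snd f T.hom = pullback.snd f (AbDual.ovr T (W s).ι).hom ≫ (W s).ι :=
    pullback.lift_snd _ _ _
  have e : PicM.pull (PicF.XTmap f i) (a * PicM.pull (pullback.snd f T.hom) b) =
      PicM.pull (PicF.XTmap f i) a := by
    rw [map_mul, PicM.pull_pull, h2, ← PicM.pull_pull, hW, map_one, mul_one]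
  have := (hP.natural T _ i _ hab).symm.trans ((congrArg (φ _) (congrArg PicM.val e)).trans (hP.natural T _ i _ ha'))
  exact congrArg (fun z => Over.Hom.left z) this

include hg h0

theorem exists_lift_of_picZero {T : Over S} (a : PicM (pullback f T.hom))
    (ha : ∀ t, dg (pullback.snd f T.hom) t a = 0) :
    ∃ R : T ⟶ Over.mk f, R ≫ φ (Over.mk f) c0.val = φ T a.val := by
  obtain ⟨j, hj⟩ := PicM.exists_mul_eq_one (cls f (one' f σ hσ T))
  obtain ⟨R, b, hb⟩ := exists_point f hg (a * j) (fun t => by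
    rw [dg_mul, ha, dg_inv _ hj t, dg_cls]; rfl)
  refine ⟨R, ?_⟩
  have e : a = cx f c0 R * PicM.pull (pullback.snd f T.hom) b := by
    refine mul_right_cancel (b := cls f R) ?_
    calc a * cls f R = (cls f (one' f σ hσ T) * j) * (a * cls f R) := by rw [hj, one_mul]
      _ = cls f (one' f σ hσ T) * (a * j * cls f R) := by ac_rfl
      _ = cls f (one' f σ hσ T) * PicM.pull (pullback.snd f T.hom) b := by rw [hb]
      _ = (cx f c0 R * cls f R) * PicM.pull (pullback.snd f T.hom) b := by rw [cx_spec f σ hσ c0 h0 R]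
      _ = _ := by ac_rfl
  rw [e, phi_mul_base f φ hP _ (dg_cx f σ hσ c0 h0 R), comp_abel f σ hσ φ hP c0 h0]

/-- **The Abel map is an isomorphism onto Pic⁰.** -/
theorem isIso_abel : IsIso (φ (Over.mk f) c0.val) := by
  let ψ := φ (Over.mk f) c0.val
  obtain ⟨R, hR, hRu⟩ := hP.locallySurjective P₀ (𝟙 P₀)
  let C := Sieve.generate R
  have hC : C ∈ Scheme.fppfTopology P₀.left := Precoverage.generate_mem_toGrothendieck hR
  have hex : ∀ ⦃V : Scheme.{u}⦄ (v : V ⟶ P₀.left), C v → ∃ y : AbDual.ovr P₀ v ⟶ Over.mk f,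
      y ≫ ψ = AbDual.ovrHom P₀ v := by
    rintro V v ⟨U, w, u, hu, rfl⟩
    obtain ⟨c, hc, hφc⟩ := hRu u hu
    obtain ⟨L, hcL, hL, -⟩ := id hc
    obtain ⟨y, hy⟩ := exists_lift_of_picZero f σ hσ hg φ hP c0 h0 (PicM.of hL)
      ((isPicZeroCl_iff f (AbDual.ovr P₀ u) (PicM.of hL)).1 (show AbDual.IsPicZeroCl f _ (PicF.cl L) by rw [hcL]; exact hc))
    rw [show (PicM.of hL).val = c from hcL, hφc, Category.comp_id] at hy
    let w' : AbDual.ovr P₀ (w ≫ u) ⟶ AbDual.ovr P₀ u := Over.homMk w (Category.assoc _ _ _).symm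
    refine ⟨w' ≫ y, ?_⟩
    rw [Category.assoc, hy]
    exact Over.OverMorphism.ext rfl
  choose y hy using hex
  obtain ⟨s, hs⟩ := AbDualLib.exists_hom_glue (T := P₀) (P := Over.mk f) C hC
    (fun V v h => (y v h).left) (fun V v h => Over.w (y v h)) (fun V V' w v h => by
      let w' : AbDual.ovr P₀ (w ≫ v) ⟶ AbDual.ovr P₀ v := Over.homMk w (Category.assoc _ _ _).symm
      have := abel_injective f σ hσ hg φ hP c0 h0 (y (w ≫ v) (C.downward_closed h w)) (w' ≫ y v h) (by
        rw [Category.assoc, hy, hy]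
        exact Over.OverMorphism.ext rfl)
      exact congrArg (fun z => Over.Hom.left z) this)
  have h1 : s ≫ ψ = 𝟙 P₀ := by
    refine Over.OverMorphism.ext ?_
    refine ((GrothendieckTopology.Subcanonical.isSheaf_of_isRepresentable (J := Scheme.fppfTopology)
      (yoneda.obj P₀.left)) _ hC).isSeparatedFor.ext fun V v h => ?_
    show v ≫ s.left ≫ ψ.left = v ≫ 𝟙 _
    rw [← Category.assoc, hs v h, Category.comp_id]
    exact congrArg (fun z => Over.Hom.left z) (hy v h)
  refine ⟨⟨s, abel_injective f σ hσ hg φ hP c0 h0 _ _ ?_, h1⟩⟩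
  rw [Category.assoc, h1, Category.comp_id, Category.id_comp]

end Groth.Agent.EllGrp5
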