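import Groth.Agent.EllGrp5.Degree
import Groth.Agent.CurveRR24.DegOne
import Groth.Agent.CurveRR24.Extremal

/-!
# The direct image of `O(x)` on a family of curves of positive genus
-/

set_option autoImplicit false
set_option linter.style.haveILetI false
set_option linter.unusedSectionVars false
set_option backward.isDefEq.respectTransparency.types false

universe u

open CategoryTheory CategoryTheory.Limits AlgebraicGeometry Opposite TopologicalSpace
open Groth.Agent.Coherent Groth.Agent.PicLib Groth.Agent.AmpleLib Groth.Agent.CubeLib Groth.Agent.EulerLib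

namespace Groth.Agent.EllGrp5

section Field

variable (k : Type u) [Field k] {X : Scheme.{u}} [X.Over (Spec (CommRingCat.of k))]
  [IsProper (X ↘ Spec (CommRingCat.of k))] [SmoothOfRelativeDimension 1 (X ↘ Spec (CommRingCat.of k))]
  [GeometricallyConnected (X ↘ Spec (CommRingCat.of k))]

/-- In positive genus a module of degree one has at most one section. -/
theorem h0_eq_one_of_deg_one (hg : 1 ≤ Module.finrank k (Coh.HH X (Coh.structureModule X) 1))
    {N : X.Modules} (hN : PicF.IsInvertible N) (hd : Curv2.deg k X N 1 = 1) {t : Γ(N, ⊤)} (ht : t ≠ 0) :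
    Module.finrank k (Coh.HH X N 0) = 1 := by
  haveI := isIntegral_curve k (X := X)
  haveI := CurveRR24.isLocallyNoetherian_of_proper k (X := X)
  have hdim := (dim_curve k (X := X)).le
  have hle := CurveRR24.h0_le_of_mono k hdim (CurveRR24.isCoh_of_isInvertible k hN) hN (𝟙 N) ht
  rw [h0_structure k] at hle
  rw [Curv2.deg, Nat.cast_one, one_mul] at hd
  rw [hd] at hle
  haveI : Module.Finite k (Coh.HH X N 0) :=
    CurveRR24.finite_HH_of_isCoh k (CurveRR24.isCoh_of_isInvertible k hN) 0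
  haveI : Nontrivial (GA (baseHom k X) N) := ⟨⟨t, 0, ht⟩⟩
  haveI : Nontrivial (Coh.HH X N 0) := (CurveRR24.hhZero k N).toEquiv.nontrivial
  have hpos : 0 < Module.finrank k (Coh.HH X N 0) := Module.finrank_pos
  have hne : Module.finrank k (Coh.HH X N 0) ≠ 2 := fun h2 => by
    have hd' : Curv2.deg k X N 1 = 1 := by rw [Curv2.deg, Nat.cast_one, one_mul]; exact hd
    have := CurveRR24.genus_zero_of_h0_eq k hdim hN (by rw [h2, h0_structure k, hd']; rfl) (by rw [hd']; exact Int.one_pos)
    rw [Curv2.genus] at this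
    omega
  omega

end Field

variable {X S : Scheme.{u}} (f : X ⟶ S) [IsProper f] [SmoothOfRelativeDimension 1 f] [GeometricallyConnected f]
  {N : X.Modules} (hN : PicF.IsInvertible N) (P : S ⟶ X) (hP : P ≫ f = 𝟙 S)
  {t : Γ(N, ⊤)} (ht : zeroOf N t = P.ker)

include hN hP ht

/-- The section does not vanish on any fibre. -/
theorem fibreSec_ne_zero (s : S) :
    resM (CohIII.fiberMod f N s) (show (⊤ : (f.fiber s).Opens) ≤ f.fiberι s ⁻¹ᵁ ⊤ from le_top)
      (pullSec (f.fiberι s) t) ≠ 0 := by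
  intro hz0
  haveI := smooth_f f
  let ξ := S.fromSpecResidueField s
  have h1 := comap_zeroOf hN (f.fiberι s) t
  rw [ht, hz0] at h1
  let Ps : Spec (S.residueField s) ⟶ f.fiber s :=
    pullback.lift (ξ ≫ P) (𝟙 _) (by rw [Category.assoc, hP, Category.comp_id, Category.id_comp])
  have h2 : BlowUp.IsEffCartierIdeal (zeroOf (CohIII.fiberMod f N s) 0) := by
    rw [← h1]
    obtain ⟨i1, i2, i3⟩ := fibre_inst f s
    have hc := comap_ker_section f (IsPullback.of_hasPullback f ξ) P hP Ps (pullback.lift_snd _ _ _)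
      (pullback.lift_fst _ _ _)
    rw [show P.ker.comap (f.fiberι s) = Ps.ker from hc]
    exact isEffCartier_sec (f.fiberToSpecResidueField s) Ps (pullback.lift_snd _ _ _)
  let x : f.fiber s := Ps (IsLocalRing.closedPoint (S.residueField s))
  obtain ⟨U, e, hxU, he⟩ := exists_affine_gen (isInvertible_fibre f hN s) x
  haveI : Nonempty U.1 := ⟨⟨x, hxU⟩⟩
  have h3 := zeroOf_ideal (isInvertible_fibre f hN s) (0 : Γ(CohIII.fiberMod f N s, ⊤)) U he
  rw [he.coef_eq le_rfl (r := 0) (by rw [map_zero, zero_smul])] at h3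
  have h4 := BlowUpLib.mem_nonZeroDivisors_of_eff h2 h3
  exact one_ne_zero (α := Γ(f.fiber s, U.1)) (h4.2 1 (by rw [mul_zero]))

/-- A coefficient of the section is invertible. -/
theorem mem_basicOpen_coef {W : S.Opens} (a : Γ(S, W)) (m : Γ(N, f ⁻¹ᵁ W))
    (h : f.app W a • m = resM N le_top t) {s : S} (hs : s ∈ W) : s ∈ S.basicOpen a := by
  by_contra hns
  haveI := smooth_f f
  letI := Clifford24.fibreOver f s
  obtain ⟨i1, i2, i3⟩ := fibre_inst f s
  haveI : IsProper (f.fiber s ↘ Spec (CommRingCat.of (S.residueField s))) := i1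
  haveI : SmoothOfRelativeDimension 1 (f.fiber s ↘ Spec (CommRingCat.of (S.residueField s))) := i2
  haveI : GeometricallyConnected (f.fiber s ↘ Spec (CommRingCat.of (S.residueField s))) := i3
  haveI := isIntegral_curve (S.residueField s) (X := f.fiber s)
  have hz : (f.fiberι s).app (f ⁻¹ᵁ W) (f.app W a) = 0 := by
    rw [← basicOpen_eq_bot_iff, ← Scheme.preimage_basicOpen, ← Scheme.preimage_basicOpen]
    refine eq_bot_iff.2 fun z hz => ?_
    have hz' : f (f.fiberι s z) ∈ S.basicOpen a := hz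
    rw [show f (f.fiberι s z) = s from (f.range_fiberι s).le ⟨z, rfl⟩] at hz'
    exact hns hz'
  have hle : (⊤ : (f.fiber s).Opens) ≤ f.fiberι s ⁻¹ᵁ (f ⁻¹ᵁ W) := fun z _ => by
    show f (f.fiberι s z) ∈ W
    rw [show f (f.fiberι s z) = s from (f.range_fiberι s).le ⟨z, rfl⟩]
    exact hs
  refine fibreSec_ne_zero f hN P hP ht s ?_
  have h1 := congrArg (resM (CohIII.fiberMod f N s) hle) (congrArg (pullSec (f.fiberι s)) h)
  rw [pullSec_smul, hz, zero_smul, map_zero, ← resM_pullSec (f.fiberι s), resM_resM] at h1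
  exact h1.symm

variable (hg : ∀ s : S, 1 ≤ CohIII.fiberRank f (Coh.structureModule X) 1 s)
  (hd : ∀ s, dg f s (PicM.of hN) = 1)

include hg hd

theorem exists_flat_chart' (s : S) :
    CohIII.fiberRank f N 0 s = 1 ∧ ∃ C : CohExch.Chart f N, s ∈ C.U ∧ C.Flat ((0 : ℕ) : ℤ) := by
  haveI := smooth_f f
  haveI := H8Coh.FibreAmple.isQCoh_of_invertible hN
  letI := Clifford24.fibreOver f s
  obtain ⟨i1, i2, i3⟩ := fibre_inst f s
  haveI : IsProper (f.fiber s ↘ Spec (CommRingCat.of (S.residueField s))) := i1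
  haveI : SmoothOfRelativeDimension 1 (f.fiber s ↘ Spec (CommRingCat.of (S.residueField s))) := i2
  haveI : GeometricallyConnected (f.fiber s ↘ Spec (CommRingCat.of (S.residueField s))) := i3
  have hg' : 1 ≤ Module.finrank (S.residueField s) (Coh.HH (f.fiber s) (Coh.structureModule (f.fiber s)) 1) :=
    (hg s).trans (CohBC.finrank_HH_congr (S.residueField s) (PicLoc.pullbackStructureIso (f.fiberι s)) 1).le
  have hd' := hd s
  rw [dg_of] at hd'
  let t0 := resM (CohIII.fiberMod f N s) (show (⊤ : (f.fiber s).Opens) ≤ f.fiberι s ⁻¹ᵁ ⊤ from le_top)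
      (pullSec (f.fiberι s) t)
  have ht0 : t0 ≠ 0 := fibreSec_ne_zero f hN P hP ht s
  have h1 := h0_eq_one_of_deg_one (S.residueField s) hg' (isInvertible_fibre f hN s) hd' ht0
  refine ⟨h1, ?_⟩
  have hfl : FlatMod.IsFlatOver f N := CohBC.isFlatOver_of_isFinLocFree f fun x =>
    let ⟨U, hx, e⟩ := PicLib.isFinLocFreeOfRank_one hN x
    ⟨U, 1, hx, e⟩
  obtain ⟨C, hsC, -⟩ := CohExch.exists_chart (f := f) (H8Coh.FibreAmple.isFP_of_invertible hN) hfl (V := ⊤) (s := s) trivial
  let ξ := S.fromSpecResidueField s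
  haveI : Subsingleton ↥(Spec (S.residueField s)) :=
    inferInstanceAs (Subsingleton (PrimeSpectrum (S.residueField s)))
  have hsq : IsPullback (f.fiberι s) (f.fiberToSpecResidueField s) f ξ := IsPullback.of_hasPullback f _
  have hepi : Epi (CohBC.bc0 f ξ (f.fiberToSpecResidueField s) (f.fiberι s) (f.fiber_fac s) N) := by
    refine (CohExch.epi_iff_surjective_top _).2 fun z => ?_
    obtain ⟨c, hc⟩ := exists_smul_eq (S.residueField s) h1 ht0 (t' := (show Γ(CohIII.fiberMod f N s, ⊤) from z))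
    let b : Γ(Spec (S.residueField s), ⊤) :=
      (Scheme.ΓSpecIso (CommRingCat.of (S.residueField s))).inv c
    refine ⟨b • resM _ (show (⊤ : (Spec (S.residueField s)).Opens) ≤ ξ ⁻¹ᵁ ⊤ from le_top)
      (pullSec ξ (show Γ((Scheme.Modules.pushforward f).obj N, ⊤) from t)), ?_⟩
    rw [Scheme.Modules.Hom.app_smul, app_resM]
    erw [CohExch.bc0_pullSec hsq.w N ⊤ t]
    refine (congrArg (b • ·) ?_).trans hc
    exact resM_resM (CohIII.fiberMod f N s) _ _ _
  obtain ⟨C', hC', -, h0, -⟩ := CohExch.Chart.exists_flat_of_epi0 hfl hepi C hsC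
  exact ⟨C', hC', h0⟩

/-- The section generates the direct image. -/
theorem isInvertible_push_genSec :
    PicF.IsInvertible ((Scheme.Modules.pushforward f).obj N) ∧ GenSec f N t := by
  haveI := smooth_f f
  haveI := H8Coh.FibreAmple.isQCoh_of_invertible hN
  have hloc : ∀ s : S, ∃ W : S.Opens, s ∈ W ∧
      IsGen ((Scheme.Modules.pushforward f).obj N) W
        (resM ((Scheme.Modules.pushforward f).obj N) (le_top : W ≤ ⊤)
          (show Γ((Scheme.Modules.pushforward f).obj N, ⊤) from t)) := by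
    intro s
    obtain ⟨h1, C, hC, h0⟩ := exists_flat_chart' f hN P hP ht hg hd s
    obtain ⟨W, n, hW, ⟨e⟩⟩ := C.exists_trivial_nhd0 h0 hC
    have hn : n = 1 := (C.fiberRank_eq_of_free (CohBC.isFlatOver_of_isFinLocFree f fun x =>
        let ⟨U, hx, e⟩ := PicLib.isFinLocFreeOfRank_one hN x
        ⟨U, 1, hx, e⟩) h0 hC hW e).symm.trans h1
    subst hn
    obtain ⟨m, hm⟩ := exists_isGen_of_iso (e ≪≫ freeModOneIso _)
    refine ⟨W, hW, ?_⟩
    obtain ⟨a, ha⟩ := (hm W le_rfl).2 (resM ((Scheme.Modules.pushforward f).obj N) (le_top : W ≤ ⊤)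
      (show Γ((Scheme.Modules.pushforward f).obj N, ⊤) from t))
    have ha1 : a • m = resM ((Scheme.Modules.pushforward f).obj N) (le_top : W ≤ ⊤)
        (show Γ((Scheme.Modules.pushforward f).obj N, ⊤) from t) := by
      have ha2 : a • resM _ (le_refl W) m = _ := ha
      rwa [resM_self] at ha2
    have hu : IsUnit a := S.toRingedSpace.isUnit_of_isUnit_germ W a fun y hy =>
      (S.mem_basicOpen a (x := y) hy).1 (mem_basicOpen_coef f hN P hP ht a m ha1 hy)
    rw [← ha1]
    have := hm.smul_unit hu.unit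
    rwa [IsUnit.unit_spec] at this
  choose W hsW hW using hloc
  refine ⟨isInvertible_of_gens fun s => ⟨W s, hsW s, _, hW s⟩, ?_⟩
  exact isGen_of_cover W (fun _ => le_top) (fun s _ => Opens.mem_iSup.2 ⟨s, hsW s⟩) hW

/-- The section is determined by the module. -/
theorem sec_unique (P' : S ⟶ X) (hP' : P' ≫ f = 𝟙 S) {t' : Γ(N, ⊤)} (ht' : zeroOf N t' = P'.ker) : P' = P := by
  obtain ⟨-, hgen⟩ := isInvertible_push_genSec f hN P hP ht hg hd
  obtain ⟨a, ha⟩ := (hgen ⊤ le_rfl).2 (show Γ((Scheme.Modules.pushforward f).obj N, ⊤) from t')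
  have ha' : HSMul.hSMul (α := Γ(X, (⊤ : X.Opens))) (f.appTop a) t = t' := by
    have ha2 : a • resM ((Scheme.Modules.pushforward f).obj N) (le_refl (⊤ : S.Opens))
      (show Γ((Scheme.Modules.pushforward f).obj N, ⊤) from t) = (show Γ((Scheme.Modules.pushforward f).obj N, ⊤) from t') := ha
    rw [resM_self] at ha2
    exact ha2
  have hu : IsUnit a := S.toRingedSpace.isUnit_of_isUnit_germ ⊤ a fun y hy =>
    (S.mem_basicOpen a (x := y) hy).1 (mem_basicOpen_coef f hN P' hP' ht' a t (ha'.trans (resM_self N _ _).symm) hy)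
  refine eq_of_ker_eq f hP' hP ?_
  rw [← ht', ← ht, ← ha']
  exact zeroOf_smul_isUnit hN (hu.map (f.app ⊤).hom) t

end Groth.Agent.EllGrp5
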