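import Groth.Agent.EllGrp5.Abel
import Groth.Agent.EllGrp5.DegOnePush
import Mathlib.AlgebraicGeometry.ZariskisMainTheorem

/-!
# The Abel map `x ↦ O(x)` of a family of curves of positive genus
-/

set_option autoImplicit false
set_option linter.style.haveILetI false
set_option linter.unusedSectionVars false
set_option backward.isDefEq.respectTransparency.types false

universe u

open CategoryTheory CategoryTheory.Limits AlgebraicGeometry
open Groth.Agent.PicLib Groth.Agent.Coherent Groth.Agent.AmpleLib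

namespace Groth.Agent.EllGrp5

variable {E S : Scheme.{u}} (f : E ⟶ S) [IsProper f] [SmoothOfRelativeDimension 1 f] [GeometricallyConnected f]
  (hg : ∀ s : S, 1 ≤ CohIII.fiberRank f (Coh.structureModule E) 1 s)

include hg

theorem genus_pos_baseChange {T XT : Scheme.{u}} {g : T ⟶ S} {g' : XT ⟶ E} {f' : XT ⟶ T}
    (h : IsPullback g' f' f g) (t : T) : 1 ≤ CohIII.fiberRank f' (Coh.structureModule XT) 1 t := by
  haveI : Coh.IsQCoh (Coh.structureModule E) := isQCoh_structureModule (X := E)
  obtain ⟨e⟩ := exists_pullStructureIso g'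
  exact (hg (g t)).trans_eq (((CohBC.finrank_HH_congr (T.residueField t)
    ((Scheme.Modules.pullback (f'.fiberι t)).mapIso e.symm) 1).trans
      (CohBC.fiberRank_pullback h (Coh.structureModule E) 1 t)).symm)

/-- A point is determined by its ideal class. -/
theorem cls_injective {T : Over S} (P P' : T ⟶ Over.mk f) (h : cls f P = cls f P') : P = P' := by
  obtain ⟨j, hj⟩ := PicM.exists_mul_eq_one (cls f P)
  obtain ⟨N, hN, rfl⟩ := PicM.exists_eq_of j
  have hd : ∀ t, dg (pullback.snd f T.hom) t (PicM.of hN) = 1 := fun t => by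
    rw [dg_inv _ hj t, dg_cls]; rfl
  have hsec : ∀ Q : T ⟶ Over.mk f, PicM.of hN * cls f Q = 1 →
      ∃ t : Γ(N, ⊤), zeroOf N t = (ptSec f T.hom Q.left (Over.w Q)).ker := fun Q hQ => by
    refine exists_section_eq _ (isEffCartier_sec _ _ (ptSec_snd f T.hom Q.left (Over.w Q))) hN ?_
    rw [cls, idl, PicM.of_mul, PicM.of_eq_one_iff] at hQ
    exact hQ
  obtain ⟨t, ht⟩ := hsec P (by rw [mul_comm]; exact hj)
  obtain ⟨t', ht'⟩ := hsec P' (by rw [mul_comm, ← h]; exact hj)
  have he := sec_unique (pullback.snd f T.hom) hN _ (ptSec_snd f T.hom P.left (Over.w P)) ht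
    (genus_pos_baseChange f hg (IsPullback.of_hasPullback f T.hom)) hd _ (ptSec_snd f T.hom P'.left (Over.w P')) ht'
  refine Over.OverMorphism.ext ?_
  exact (ptSec_fst f T.hom P.left (Over.w P)).symm.trans
    ((congrArg (fun x => x ≫ pullback.fst f T.hom) he.symm).trans (ptSec_fst f T.hom P'.left (Over.w P')))

variable {P₀ : Over S} (φ : ∀ T : Over S, PicF.Cl (PicF.XT f T) → (T ⟶ P₀))
  (hP : AbDual.IsRelPicK Scheme.fppfPrecoverage f P₀ φ) (c1 : PicM (pullback f (Over.mk f).hom))
  (h1 : c1 * cls f (𝟙 (Over.mk f)) = 1)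

include hP h1

theorem abelOne_injective {T : Over S} (x x' : T ⟶ Over.mk f)
    (h : x ≫ φ (Over.mk f) c1.val = x' ≫ φ (Over.mk f) c1.val) : x = x' := by
  have hc : ∀ y : T ⟶ Over.mk f, PicM.pull (PicF.XTmap f y) c1 * cls f y = 1 := fun y => by
    have h2 := congrArg (PicM.pull (PicF.XTmap f y)) h1
    rwa [map_mul, pull_cls, map_one, Category.comp_id] at h2
  rw [← hP.natural _ _ x _ c1.prop, ← hP.natural _ _ x' _ c1.prop] at h
  obtain ⟨R, hR, hRu⟩ := hP.locallyInjective T _ _ (PicM.pull (PicF.XTmap f x) c1).prop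
    (PicM.pull (PicF.XTmap f x') c1).prop h
  have key : ∀ ⦃U : Scheme.{u}⦄ (u : U ⟶ T.left), R u → AbDual.ovrHom T u ≫ x = AbDual.ovrHom T u ≫ x' := by
    intro U u hu
    have e : PicM.pull (PicF.XTmap f (AbDual.ovrHom T u)) (PicM.pull (PicF.XTmap f x) c1) =
        PicM.pull (PicF.XTmap f (AbDual.ovrHom T u)) (PicM.pull (PicF.XTmap f x') c1) := PicM.ext (hRu u hu)
    have a := congrArg (PicM.pull (PicF.XTmap f (AbDual.ovrHom T u))) (hc x)
    have b := congrArg (PicM.pull (PicF.XTmap f (AbDual.ovrHom T u))) (hc x')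
    rw [map_mul, map_one, pull_cls, e] at a
    rw [map_mul, map_one, pull_cls] at b
    exact cls_injective f hg _ _ (mul_left_cancel (a.trans b.symm))
  refine Over.OverMorphism.ext ?_
  have hmem : Sieve.generate R ∈ Scheme.fppfTopology T.left := Precoverage.generate_mem_toGrothendieck hR
  refine ((GrothendieckTopology.Subcanonical.isSheaf_of_isRepresentable (J := Scheme.fppfTopology)
    (yoneda.obj E)) _ hmem).isSeparatedFor.ext ?_
  intro U u hu
  obtain ⟨V, v, w, hw, rfl⟩ := hu
  show (v ≫ w) ≫ x.left = (v ≫ w) ≫ x'.left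
  rw [Category.assoc, Category.assoc]
  exact congrArg (v ≫ ·) (congrArg (fun z => Over.Hom.left z) (key w hw))

/-- **The Abel map is a closed immersion.** -/
theorem isClosedImmersion_abelOne [IsSeparated P₀.hom] :
    IsClosedImmersion (φ (Over.mk f) c1.val).left := by
  let ψ := φ (Over.mk f) c1.val
  refine (IsClosedImmersion.iff_isProper_and_mono _).2 ⟨?_, ⟨fun {Z} a b hab => ?_⟩⟩
  · haveI : IsProper (ψ.left ≫ P₀.hom) := by rw [Over.w ψ]; assumption
    exact IsProper.of_comp ψ.left P₀.hom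
  · have hw : a ≫ f = b ≫ f := by
      have := congrArg (fun z => z ≫ P₀.hom) hab
      exact ((congrArg (a ≫ ·) (Over.w ψ)).symm.trans ((Category.assoc _ _ _).symm.trans this)).trans
        ((Category.assoc _ _ _).trans (congrArg (b ≫ ·) (Over.w ψ)))
    let T : Over S := Over.mk (a ≫ f)
    have := abelOne_injective f hg φ hP c1 h1 (T := T) (Over.homMk a rfl) (Over.homMk b hw.symm)
      (Over.OverMorphism.ext hab)
    exact congrArg (fun z => Over.Hom.left z) this

end Groth.Agent.EllGrp5
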