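import Groth.Agent.EllGrp5.Field
import Groth.Agent.PicTau27.CurveAlg
import Groth.Agent.Coherent.CohBC.EulerFamily

/-!
# Fibre degree zero and algebraic triviality on geometric fibres
-/

set_option autoImplicit false
set_option linter.style.haveILetI false
set_option linter.unusedSectionVars false
set_option backward.isDefEq.respectTransparency.types false

universe u

open CategoryTheory CategoryTheory.Limits AlgebraicGeometry
open Groth.Agent.Coherent Groth.Agent.PicLib Groth.Agent.AmpleLib

namespace Groth.Agent.EllGrp5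

variable {X S : Scheme.{u}} (f : X ⟶ S)

/-- Smooth families with fibres of dimension one are smooth of relative dimension one. -/
theorem smoothRD_of_fibre_dim [IsProper f] [Smooth f] [GeometricallyConnected f]
    (hdim : ∀ s : S, topologicalKrullDim ↥(f.fiber s) = 1) : SmoothOfRelativeDimension 1 f := by
  choose V n hxV hn using fun x => Unram17Lib.exists_smoothOfRelativeDimension f x
  have h1 : ∀ x, n x = 1 := fun x => by
    let k := S.residueField (f x)
    let q : f.fiber (f x) ⟶ Spec (CommRingCat.of k) := f.fiberToSpecResidueField (f x)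
    haveI : IsProper q := MorphismProperty.pullback_snd (P := @IsProper) _ _ inferInstance
    haveI : Smooth q := MorphismProperty.pullback_snd (P := @Smooth) _ _ inferInstance
    haveI : GeometricallyConnected q := MorphismProperty.pullback_snd (P := @GeometricallyConnected) _ _ inferInstance
    haveI : GeometricallyIntegral q := AbVarLib.geometricallyIntegral_of_smooth q
    haveI : IsIntegral (f.fiber (f x)) := GeometricallyIntegral.isIntegral_of_subsingleton q
    haveI h1q : SmoothOfRelativeDimension 1 q := smoothRD_of_dim q (hdim (f x))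
    let W : (f.fiber (f x)).Opens := f.fiberι (f x) ⁻¹ᵁ V x
    have hsq : IsPullback (f.fiberι (f x) ∣_ V x) (W.ι ≫ q) ((V x).ι ≫ f) (S.fromSpecResidueField (f x)) :=
      (isPullback_morphismRestrict (f.fiberι (f x)) (V x)).paste_vert (IsPullback.of_hasPullback _ _)
    haveI := hn x
    haveI hnW : SmoothOfRelativeDimension (n x) (W.ι ≫ q) :=
      haveI := smoothOfRelativeDimension_isStableUnderBaseChange.{u} (n x)
      MorphismProperty.of_isPullback (P := @SmoothOfRelativeDimension (n x)) hsq inferInstance
    haveI : SmoothOfRelativeDimension 1 (W.ι ≫ q) :=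
      haveI := smoothOfRelativeDimension_isStableUnderBaseChange.{u} 1
      inferInstanceAs (SmoothOfRelativeDimension (0 + 1) (W.ι ≫ q))
    let w : W.toScheme := ⟨f.asFiber x, by
      show f.fiberι (f x) (f.asFiber x) ∈ V x
      rw [f.fiberι_asFiber]; exact hxV x⟩
    have a := Unram17Lib.localDim_of_smoothOfRelativeDimension k (W.ι ≫ q) (n x) w
    have b := Unram17Lib.localDim_of_smoothOfRelativeDimension k (W.ι ≫ q) 1 w
    rw [a] at b
    exact_mod_cast b
  refine IsZariskiLocalAtSource.of_iSup_eq_top (P := @SmoothOfRelativeDimension 1) V ?_ fun x => ?_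
  · exact eq_top_iff.2 fun x _ => TopologicalSpace.Opens.mem_iSup.2 ⟨x, hxV x⟩
  · have := hn x
    rwa [h1 x] at this

variable [IsProper f] [SmoothOfRelativeDimension 1 f] [GeometricallyConnected f]

/-- The fibre degree is invariant under base change. -/
theorem dg_baseChange {T XT : Scheme.{u}} {g : T ⟶ S} {g' : XT ⟶ X} {f' : XT ⟶ T} (h : IsPullback g' f' f g)
    (t : T) (a : PicM X) : dg f' t (PicM.pull g' a) = dg f (g t) a := by
  obtain ⟨L, hL, rfl⟩ := PicM.exists_eq_of a
  rw [PicM.pull_of, dg_of, dg_of]
  haveI := H8Coh.FibreAmple.isQCoh_of_invertible hL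
  haveI : Coh.IsQCoh (Coh.structureModule X) := isQCoh_structureModule (X := X)
  obtain ⟨e⟩ := exists_pullStructureIso g'
  letI := Clifford24.fibreOver f' t
  letI := Clifford24.fibreOver f (g t)
  have h1 : ∀ i, Module.finrank (T.residueField t) (Coh.HH (f'.fiber t) (Coh.structureModule (f'.fiber t)) i) =
      Module.finrank (S.residueField (g t)) (Coh.HH (f.fiber (g t)) (Coh.structureModule (f.fiber (g t))) i) := by
    intro i
    refine (CohBC.finrank_HH_congr (T.residueField t) (PicLoc.pullbackStructureIso (f'.fiberι t)).symm i).trans ?_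
    refine (CohBC.finrank_HH_congr (T.residueField t) ((Scheme.Modules.pullback (f'.fiberι t)).mapIso e.symm) i).trans ?_
    exact (CohBC.fiberRank_pullback h (Coh.structureModule X) i t).trans
      (CohBC.finrank_HH_congr (S.residueField (g t)) (PicLoc.pullbackStructureIso (f.fiberι (g t))) i)
  have h2 : ∀ i, Module.finrank (T.residueField t)
      (Coh.HH (f'.fiber t) (CohIII.fiberMod f' ((Scheme.Modules.pullback g').obj L) t) i) =
      Module.finrank (S.residueField (g t)) (Coh.HH (f.fiber (g t)) (CohIII.fiberMod f L (g t)) i) :=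
    fun i => CohBC.fiberRank_pullback h L i t
  simp only [Curv2.deg, Curv2.euler, h1, h2]

omit [SmoothOfRelativeDimension 1 f] [GeometricallyConnected f] in
/-- Over a field the fibre degree is the degree. -/
theorem dg_field {k : Type u} [Field k] {C : Scheme.{u}} [C.Over (Spec (CommRingCat.of k))]
    [IsProper (C ↘ Spec (CommRingCat.of k))] (pt : Spec (CommRingCat.of k)) {L : C.Modules}
    (hL : PicF.IsInvertible L) : dg (C ↘ Spec (CommRingCat.of k)) pt (PicM.of hL) = Curv2.deg k C L 1 := by
  rw [dg_of]
  haveI := H8Coh.FibreAmple.isQCoh_of_invertible hL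
  haveI : Coh.IsQCoh (Coh.structureModule C) := isQCoh_structureModule (X := C)
  haveI : CompactSpace C := QuasiCompact.compactSpace_of_compactSpace (C ↘ Spec (CommRingCat.of k))
  haveI : QuasiSeparatedSpace C := quasiSeparatedSpace_of_quasiSeparated (C ↘ Spec (CommRingCat.of k))
  letI := Clifford24.fibreOver (C ↘ Spec (CommRingCat.of k)) pt
  have key : ∀ (M : C.Modules) [Coh.IsQCoh M] i, Module.finrank ((Spec (CommRingCat.of k)).residueField pt)
      (Coh.HH ((C ↘ Spec (CommRingCat.of k)).fiber pt)
        (CohIII.fiberMod (C ↘ Spec (CommRingCat.of k)) M pt) i) = Module.finrank k (Coh.HH C M i) :=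
    fun M _ i => CohBC.finrank_HH_bc k _ (CohBC.residueHom pt) (C ↘ Spec (CommRingCat.of k))
      ((C ↘ Spec (CommRingCat.of k)).fiberToSpecResidueField pt) ((C ↘ Spec (CommRingCat.of k)).fiberι pt)
      (CohBC.PerfData.isPullback_fibre pt) M _ (Iso.refl _) i
  have key1 : ∀ i, Module.finrank ((Spec (CommRingCat.of k)).residueField pt)
      (Coh.HH ((C ↘ Spec (CommRingCat.of k)).fiber pt)
        (Coh.structureModule ((C ↘ Spec (CommRingCat.of k)).fiber pt)) i) =
      Module.finrank k (Coh.HH C (Coh.structureModule C) i) := fun i =>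
    (CohBC.finrank_HH_congr _ (PicLoc.pullbackStructureIso _).symm i).trans (key _ i)
  simp only [Curv2.deg, Curv2.euler, key1, key L]

/-- The degree on a geometric fibre. -/
theorem deg_geom {Ω : Type u} [Field Ω] (σ : Spec (CommRingCat.of Ω) ⟶ S) {L : X.Modules}
    (hL : PicF.IsInvertible L) (pt : Spec (CommRingCat.of Ω)) :
    letI : (pullback f σ).Over (Spec (CommRingCat.of Ω)) := ⟨pullback.snd f σ⟩
    Curv2.deg Ω (pullback f σ) ((Scheme.Modules.pullback (pullback.fst f σ)).obj L) 1 = dg f (σ pt) (PicM.of hL) := by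
  letI : (pullback f σ).Over (Spec (CommRingCat.of Ω)) := ⟨pullback.snd f σ⟩
  haveI : IsProper (pullback f σ ↘ Spec (CommRingCat.of Ω)) := inferInstanceAs (IsProper (pullback.snd f σ))
  rw [← dg_baseChange f (IsPullback.of_hasPullback f σ) pt, PicM.pull_of]
  exact (dg_field pt _).symm

/-- Fibre degree zero is algebraic triviality on geometric fibres. -/
theorem isAlgTrivialAt_iff {L : X.Modules} (hL : PicF.IsInvertible L) (s : S) :
    AbDual.IsAlgTrivialAt f L s ↔ dg f s (PicM.of hL) = 0 := by
  constructor
  · intro h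
    let Ω := AlgebraicClosure (S.residueField s)
    let σ : Spec (CommRingCat.of Ω) ⟶ S :=
      Spec.map (CommRingCat.ofHom (algebraMap (S.residueField s) Ω)) ≫ S.fromSpecResidueField s
    have hpt : ∀ pt, σ pt = s := fun pt => by
      rw [Scheme.Hom.comp_apply]; exact Scheme.fromSpecResidueField_apply s _
    have hσ : Set.range σ.base = {s} :=
      Set.ext fun y => ⟨fun ⟨pt, e⟩ => e.symm.trans (hpt pt), fun e => ⟨default, (hpt default).trans e.symm⟩⟩
    letI : (pullback f σ).Over (Spec (CommRingCat.of Ω)) := ⟨pullback.snd f σ⟩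
    haveI : IsProper (pullback f σ ↘ Spec (CommRingCat.of Ω)) := inferInstanceAs (IsProper (pullback.snd f σ))
    haveI := CurveRR24.isLocallyNoetherian_of_proper Ω (X := pullback f σ)
    have hO : Coh.IsCoh (Coh.structureModule (pullback f σ)) :=
      CurveRR24.isCoh_of_isInvertible Ω (AmpleLib.isInvertible_structureModule (X := pullback f σ))
    have e := CohBC.euler_tensor_eq_of_isAlgEquivZero Ω (pullback f σ) (h Ω σ hσ) hO
    rw [EulerLib.euler_congr Ω (pullback f σ) (unitTensorIso _)] at e
    rw [← hpt default, ← deg_geom f σ hL default, Curv2.deg, e]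
    simp
  · intro h Ω _ _ σ hσ
    letI : (pullback f σ).Over (Spec (CommRingCat.of Ω)) := ⟨pullback.snd f σ⟩
    haveI hp : IsProper (pullback f σ ↘ Spec (CommRingCat.of Ω)) := inferInstanceAs (IsProper (pullback.snd f σ))
    haveI : SmoothOfRelativeDimension 1 (pullback f σ ↘ Spec (CommRingCat.of Ω)) := smoothRD_snd f σ
    haveI : GeometricallyConnected (pullback f σ ↘ Spec (CommRingCat.of Ω)) := geomConn_snd f σ
    haveI := smooth_str Ω (X := pullback f σ)
    haveI := isIntegral_curve Ω (X := pullback f σ)
    refine PicTau27.isAlgEquivZero_of_deg_eq_zero (dim_curve Ω) (PicLoc.isInvertible_pullback _ hL) ?_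
    rw [deg_geom f σ hL default, show σ default = s from (hσ.subset ⟨default, rfl⟩ : _), h]

omit [SmoothOfRelativeDimension 1 f] [GeometricallyConnected f] in
theorem picM_exists_of_cl {c : PicF.Cl X} {L : X.Modules} (e : PicF.cl L = c) (hL : PicF.IsInvertible L) :
    ∃ a : PicM X, a.val = c ∧ a = PicM.of hL := ⟨PicM.of hL, e, rfl⟩

/-- Classes in Pic⁰ are those of fibre degree zero. -/
theorem isPicZeroCl_iff (T : Over S) (a : PicM (pullback f T.hom)) :
    AbDual.IsPicZeroCl f T a.val ↔ ∀ t, dg (pullback.snd f T.hom) t a = 0 := by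
  constructor
  · rintro ⟨L, e, hL, h⟩ t
    rw [show a = PicM.of hL from PicM.ext e.symm]
    exact (isAlgTrivialAt_iff (pullback.snd f T.hom) hL t).1 (h t)
  · intro h
    obtain ⟨L, hL, rfl⟩ := PicM.exists_eq_of a
    exact ⟨L, rfl, hL, fun t => (isAlgTrivialAt_iff (pullback.snd f T.hom) hL t).2 (h t)⟩

end Groth.Agent.EllGrp5
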