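import Groth.Agent.AbCubeLib.CharpolyFrob
import Groth.Agent.AbCubeLib.EndBC
import Groth.Agent.ThetaLib.FiniteRank
import Groth.Agent.EulerLib.NumEquivDeg
import Groth.Agent.AbSchLib.RigidityGeneral
import Groth.Agent.AbSchLib.SmoothReduced
import Groth.Agent.AbVarLib.GeomIntegralSmooth
import Groth.Agent.GenusZero5.Examples
import Groth.Prelude.Def_AgPol

/-!
# Automorphisms of elliptic curves fixing a subgroup of order at least five
-/

set_option autoImplicit false
set_option linter.style.haveILetI false
set_option linter.unusedSectionVars false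
set_option backward.isDefEq.respectTransparency.types false
set_option maxHeartbeats 1000000

universe u

open CategoryTheory CategoryTheory.Limits MonoidalCategory CartesianMonoidalCategory AlgebraicGeometry MonObj
open Groth.Agent.AbCubeLib

namespace Groth.Agent.EllGrp5

section Field

variable {k : Type u} [Field k] [IsAlgClosed k] {A : Over (Spec (CommRingCat.of k))} [GrpObj A] [IsProper A.hom]
  [GeometricallyIntegral A.hom]

theorem autom_collapsed (hdim : topologicalKrullDim A.left = ((1 : ℕ) : WithBot ℕ∞)) (ε : A ⟶ A) [IsMonHom ε]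
    [IsIso ε] {G : Over (Spec (CommRingCat.of k))} (j : G ⟶ A) [IsClosedImmersion j.left] [IsFinite G.hom]
    (hG : 5 ≤ ThetaLib.rk G) (hfix : j ≫ ε = j) (a : A.left) :
    (ε * (𝟙 A)⁻¹).left a = (η[A]).left (IsLocalRing.closedPoint k) := by
  classical
  haveI : IsCommMonObj A := isCommMonObj_of_isProper_of_geometricallyIntegral A
  haveI : IsIntegral A.left := GeometricallyIntegral.isIntegral_of_subsingleton A.hom
  let α : EndAV.End A := EndAV.End.of ε
  obtain ⟨P, hP, hPd, hval⟩ := exists_degQ_add_poly hdim α
  let φ : EndAV.End A := α + ((-1 : ℤ) : EndAV.End A)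
  have hφ : φ.toHom = ε * (𝟙 A)⁻¹ := by
    rw [EndAV.End.toHom_add, EndAV.End.toHom_intCast, _root_.zpow_neg_one]
    rfl
  haveI : IsIso ε.left := inferInstanceAs (IsIso ((Over.forget _).map ε))
  have h0 : P.eval ((0 : ℤ) : ℚ) = 1 := by
    rw [← hval 0, Int.cast_zero, _root_.add_zero]
    show degQ ε = 1
    rw [degQ, if_pos (inferInstanceAs (IsFinite ε.left)), Scheme.Hom.finrank_eq_one_of_isIso]
    norm_num
  have hdeg : degQ φ.toHom ≤ 4 := by
    have hc : P = Polynomial.X ^ 2 + Polynomial.C (P.coeff 1) * Polynomial.X + Polynomial.C (P.coeff 0) := by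
      conv_lhs => rw [P.as_sum_range_C_mul_X_pow, hPd]
      have h2 : P.coeff 2 = 1 := by have := hP.coeff_natDegree; rwa [hPd] at this
      simp [Finset.sum_range_succ, h2]
      ring
    have h1 : (0 : ℚ) ≤ P.eval ((1 : ℤ) : ℚ) := (hval 1) ▸ degQ_nonneg _
    rw [hval (-1)]
    rw [hc] at h0 h1 ⊢
    simp only [Polynomial.eval_add, Polynomial.eval_mul, Polynomial.eval_C, Polynomial.eval_X, Polynomial.eval_pow,
      Int.cast_neg, Int.cast_one, Int.cast_zero] at h0 h1 ⊢
    linarith
  have hmon : IsMonHom φ.toHom := φ.hom.hom.isMonHom_hom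
  have hone : η[A] ≫ φ.toHom = η[A] := IsMonHom.one_hom _
  have hnfin : ¬ IsFinite φ.toHom.left := by
    intro hfin
    have hjφ : j ≫ φ.toHom = toUnit G ≫ η[A] := by
      rw [hφ, MonObj.comp_mul, GrpObj.comp_inv, hfix, Category.comp_id, mul_inv_cancel]
      rfl
    have sq := IsPullback.of_hasPullback φ.toHom.left η[A].left
    let K : Over (Spec (CommRingCat.of k)) := Over.mk (pullback.snd φ.toHom.left η[A].left)
    haveI : IsFinite K.hom := MorphismProperty.pullback_snd (P := @IsFinite) _ _ hfin
    have hw : j.left ≫ φ.toHom.left = G.hom ≫ η[A].left := congrArg CommaMorphism.left hjφ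
    let i : G ⟶ K := Over.homMk (pullback.lift j.left G.hom hw) (pullback.lift_snd _ _ _)
    haveI : IsSeparated A.hom := inferInstance
    haveI : IsClosedImmersion η[A].left := isClosedImmersion_of_comp_eq_id A.hom _ (Over.w η[A])
    haveI : IsClosedImmersion (pullback.fst φ.toHom.left η[A].left) :=
      MorphismProperty.pullback_fst (P := @IsClosedImmersion) _ _ inferInstance
    haveI : IsClosedImmersion i.left := by
      haveI : IsClosedImmersion (i.left ≫ pullback.fst φ.toHom.left η[A].left) := by
        rw [show i.left ≫ pullback.fst φ.toHom.left η[A].left = j.left from pullback.lift_fst _ _ _]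
        infer_instance
      exact IsClosedImmersion.of_comp i.left (pullback.fst φ.toHom.left η[A].left)
    have hle := ThetaLib.rk_le_of_closedImmersion i
    have hrk : degQ φ.toHom = (ThetaLib.rk K : ℚ) := by
      rw [degQ, if_pos hfin]
      obtain ⟨-, hflat⟩ := AbVarLib.surjective_and_flat_of_isFinite φ.toHom rfl
      congr 1
      exact (Scheme.Hom.finrank_pullback_snd φ.toHom.left η[A].left (IsLocalRing.closedPoint k)).symm
    have : (5 : ℚ) ≤ degQ φ.toHom := hrk ▸ (by exact_mod_cast hG.trans hle)
    linarith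
  letI : A.left.Over (Spec (CommRingCat.of k)) := ⟨A.hom⟩
  haveI : IsProper (A.left ↘ Spec (CommRingCat.of k)) := ‹IsProper A.hom›
  have hconst : ∀ w, φ.toHom.left w = φ.toHom.left (genericPoint A.left) := by
    by_contra hne
    exact hnfin (EulerLib.isFinite_of_ne_point (k := k) φ.toHom.left (Over.w φ.toHom)
      (hdim.le.trans (le_of_eq Nat.cast_one)) hne)
  rw [← hφ]
  have he : φ.toHom.left ((η[A]).left (IsLocalRing.closedPoint k)) = (η[A]).left (IsLocalRing.closedPoint k) := by
    conv_rhs => rw [← hone]
    rfl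
  rw [hconst a, ← hconst ((η[A]).left (IsLocalRing.closedPoint k)), he]

end Field

theorem isClosedImmersion_map {S S' : Scheme.{u}} (b : S' ⟶ S) {G E : Over S} (i : G ⟶ E) [IsClosedImmersion i.left] :
    IsClosedImmersion ((Over.pullback b).map i).left := by
  have h : IsPullback (pullback.fst G.hom b) ((Over.pullback b).map i).left i.left (pullback.fst E.hom b) :=
    IsPullback.of_bot
      (v₂₁ := pullback.snd E.hom b) (v₂₂ := E.hom) (h₃₁ := b)
      (by
        simp only [Over.pullback_map_left]
        rw [pullback.lift_snd, Over.w]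
        exact IsPullback.of_hasPullback G.hom b)
      (by simp only [Over.pullback_map_left]; rw [pullback.lift_fst])
      (IsPullback.of_hasPullback E.hom b)
  exact MorphismProperty.of_isPullback (P := @IsClosedImmersion) h inferInstance

/-- An automorphism of a family of elliptic curves fixing a finite flat subgroup of rank at least five is trivial. -/
theorem autom_eq_id {S : Scheme.{u}} (E : Over S) [GrpObj E] (hE : AgPol.IsAbSch E 1)
    {G : Over S} (i : G ⟶ E) [IsClosedImmersion i.left]
    [IsFinite G.hom] [Flat G.hom] [LocallyOfFinitePresentation G.hom]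
    (N : ℕ) (hN : 5 ≤ N) (hrk : ∀ s : S, G.hom.finrank s = N)
    (ε : E ⟶ E) [IsMonHom ε] [IsIso ε] (hfix : i ≫ ε = i) : ε = 𝟙 E := by
  haveI := hE.smooth
  haveI := hE.proper
  haveI := hE.geomConnected
  haveI := AbSchLib.geometricallyReduced_of_smooth E.hom
  let d : E ⟶ E := ε * (𝟙 E)⁻¹
  have hd1 : η[E] ≫ d = η[E] := by
    have h1 : η[E] = (1 : 𝟙_ (Over S) ⟶ E) := by
      rw [Hom.one_def, toUnit_unique (toUnit _) (𝟙 _), Category.id_comp]
    rw [MonObj.comp_mul, GrpObj.comp_inv, IsMonHom.one_hom, Category.comp_id, mul_inv_cancel, ← h1]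
  have hcol : ∀ s : S, s ∈ AbSchLib.collapsedLocus E.hom d.left := by
    intro s
    obtain ⟨Ω, _, _, b, hb⟩ := GenusZero5.exists_geomPoint s
    letI : (Over.pullback b).Monoidal := .ofChosenFiniteProducts _
    letI : GrpObj ((Over.pullback b).obj E) := Functor.grpObjObj
    haveI : IsProper ((Over.pullback b).obj E).hom := inferInstanceAs (IsProper (pullback.snd E.hom b))
    haveI : GeometricallyIntegral ((Over.pullback b).obj E).hom :=
      haveI : Smooth (pullback.snd E.hom b) := MorphismProperty.pullback_snd (P := @Smooth) _ _ inferInstance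
      haveI : GeometricallyConnected (pullback.snd E.hom b) :=
        MorphismProperty.pullback_snd (P := @GeometricallyConnected) _ _ inferInstance
      AbVarLib.geometricallyIntegral_of_smooth (pullback.snd E.hom b)
    have hdim : topologicalKrullDim ↥((Over.pullback b).obj E).left = ((1 : ℕ) : WithBot ℕ∞) :=
      (GenusZero5.fibre_dim_eq E.hom b).symm.trans (hE.fibreDim _)
    haveI : IsIso ((Over.pullback b).map ε) := inferInstance
    haveI : IsMonHom ((Over.pullback b).map ε) := inferInstance
    haveI : IsFinite ((Over.pullback b).obj G).hom := inferInstanceAs (IsFinite (pullback.snd G.hom b))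
    haveI : IsClosedImmersion ((Over.pullback b).map i).left :=
      isClosedImmersion_map b i
    have hG : 5 ≤ ThetaLib.rk ((Over.pullback b).obj G) := by
      show 5 ≤ (pullback.snd G.hom b).finrank (IsLocalRing.closedPoint Ω)
      rw [Scheme.Hom.finrank_pullback_snd, hrk]
      exact hN
    have key := autom_collapsed hdim ((Over.pullback b).map ε) ((Over.pullback b).map i) hG
      (by rw [← Functor.map_comp, hfix])
    have hmap : (Over.pullback b).map d = (Over.pullback b).map ε * (𝟙 ((Over.pullback b).obj E))⁻¹ := by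
      rw [← CategoryTheory.Functor.map_id, ← Functor.homMonoidHom_apply, map_mul, map_inv]
      rfl
    rintro _ ⟨x, hx, rfl⟩ _ ⟨y, hy, rfl⟩
    haveI : Subsingleton (Spec (CommRingCat.of Ω)) := inferInstanceAs (Subsingleton (PrimeSpectrum Ω))
    have hz : ∀ x : E.left, E.hom x = s → ∃ z : ((Over.pullback b).obj E).left, pullback.fst E.hom b z = x ∧
        d.left x = pullback.fst E.hom b (((Over.pullback b).map d).left z) := fun x hx => by
      obtain ⟨z, hz, -⟩ := Scheme.Pullback.exists_preimage_pullback (f := E.hom) (g := b) x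
        (IsLocalRing.closedPoint Ω) (hx.trans hb.symm)
      refine ⟨z, hz, ?_⟩
      rw [← hz, ← Scheme.Hom.comp_apply, ← Scheme.Hom.comp_apply]
      exact congrArg (fun g : pullback E.hom b ⟶ E.left => g z) (pullback.lift_fst _ _ _).symm
    obtain ⟨z, -, e1⟩ := hz x hx
    obtain ⟨w, -, e2⟩ := hz y hy
    rw [e1, e2, hmap, key z, key w]
  have heq := (AbSchLib.isClopen_collapsedLocus_and_eq_section (𝟙 S) E.hom E.hom d.left η[E].left (Over.w η[E])
    (by rw [Over.w, Category.comp_id])).2 ⊤ (fun s _ => hcol s)
  have hd : d = 1 := by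
    apply Over.OverMorphism.ext
    haveI : IsIso (E.hom ⁻¹ᵁ ⊤).ι := inferInstanceAs (IsIso E.left.topIso.hom)
    rw [← cancel_epi (E.hom ⁻¹ᵁ ⊤).ι]
    refine heq.trans (congrArg (_ ≫ ·) ?_)
    rw [show η[E].left ≫ d.left = η[E].left from congrArg CommaMorphism.left hd1, Hom.one_def, Over.comp_left,
      Over.toUnit_left]
  exact mul_inv_eq_one.1 hd

end Groth.Agent.EllGrp5
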