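import Groth.Agent.EllGrp5.Point

/-!
# Fibre degrees on families of genus one curves
-/

set_option autoImplicit false
set_option linter.style.haveILetI false
set_option linter.unusedSectionVars false
set_option backward.isDefEq.respectTransparency.types false

universe u

open CategoryTheory CategoryTheory.Limits AlgebraicGeometry Opposite TopologicalSpace
open Groth.Agent.Coherent Groth.Agent.PicLib Groth.Agent.AmpleLib

namespace Groth.Agent.EllGrp5

variable {X S : Scheme.{u}} (f : X ⟶ S)

/-- The fibre degree of a class. -/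
noncomputable def dg (s : S) (a : PicM X) : ℤ :=
  letI := Clifford24.fibreOver f s
  Curv2.deg (S.residueField s) (f.fiber s) (CohIII.fiberMod f (PicM.exists_eq_of a).choose s) 1

theorem dg_of (s : S) {L : X.Modules} (hL : PicF.IsInvertible L) :
    dg f s (PicM.of hL) =
      letI := Clifford24.fibreOver f s
      Curv2.deg (S.residueField s) (f.fiber s) (CohIII.fiberMod f L s) 1 := by
  let _ := Clifford24.fibreOver f s
  obtain ⟨h', he⟩ := (PicM.exists_eq_of (PicM.of hL)).choose_spec
  obtain ⟨e⟩ := (PicM.of_eq_iff hL h').1 he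
  simp only [dg, Curv2.deg, Curv2.euler,
    fun i => CohBC.finrank_HH_congr (S.residueField s) ((Scheme.Modules.pullback (f.fiberι s)).mapIso e.symm) i]

variable [IsProper f] [SmoothOfRelativeDimension 1 f] [GeometricallyConnected f]

theorem dg_mul (s : S) (a b : PicM X) : dg f s (a * b) = dg f s a + dg f s b := by
  obtain ⟨L, hL, rfl⟩ := PicM.exists_eq_of a
  obtain ⟨M, hM, rfl⟩ := PicM.exists_eq_of b
  rw [PicM.of_mul, dg_of, dg_of, dg_of]
  let _ := Clifford24.fibreOver f s
  obtain ⟨i1, i2, i3⟩ := fibre_inst f s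
  haveI : IsProper (f.fiber s ↘ Spec (CommRingCat.of (S.residueField s))) := i1
  haveI : SmoothOfRelativeDimension 1 (f.fiber s ↘ Spec (CommRingCat.of (S.residueField s))) := i2
  haveI : GeometricallyConnected (f.fiber s ↘ Spec (CommRingCat.of (S.residueField s))) := i3
  obtain ⟨e⟩ := exists_pullTensorIso (f.fiberι s) hL hM
  exact (CurveRR24.deg_congr (S.residueField s) e 1).trans
    (CurveRR24.deg_tensor (S.residueField s) (dim_curve (S.residueField s) (X := f.fiber s)).le
      (isInvertible_fibre f hL s) (isInvertible_fibre f hM s))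

theorem dg_one (s : S) : dg f s 1 = 0 := by
  have h := dg_mul f s 1 1
  rw [mul_one] at h
  omega

theorem dg_inv {a b : PicM X} (h : a * b = 1) (s : S) : dg f s b = - dg f s a := by
  have := dg_mul f s a b
  rw [h, dg_one] at this
  omega

theorem dg_pull (s : S) (b : PicM S) : dg f s (PicM.pull f b) = 0 := by
  obtain ⟨M, hM, rfl⟩ := PicM.exists_eq_of b
  rw [PicM.pull_of, dg_of]
  let _ := Clifford24.fibreOver f s
  obtain ⟨i1, i2, i3⟩ := fibre_inst f s
  haveI : IsProper (f.fiber s ↘ Spec (CommRingCat.of (S.residueField s))) := i1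
  have h : PicM.pull (f.fiberι s) (PicM.pull f (PicM.of hM)) = 1 := by
    rw [PicM.pull_pull, f.fiber_fac, ← PicM.pull_pull, PicM.eq_one_of_field (S.residueField s) (PicM.pull (S.fromSpecResidueField s) (PicM.of hM)), map_one]
  rw [PicM.pull_of, PicM.pull_of, PicM.of_eq_one_iff] at h
  obtain ⟨e⟩ := h
  rw [show CohIII.fiberMod f ((Scheme.Modules.pullback f).obj M) s =
    (Scheme.Modules.pullback (f.fiberι s)).obj ((Scheme.Modules.pullback f).obj M) from rfl,
    CurveRR24.deg_congr (S.residueField s) e 1]
  exact CurveRR24.deg_structure (S.residueField s)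

theorem dg_idl (P : S ⟶ X) (hP : P ≫ f = 𝟙 S) (s : S) : dg f s (idl f P hP) = -1 := by
  rw [idl, dg_of]
  let _ := Clifford24.fibreOver f s
  obtain ⟨i1, i2, i3⟩ := fibre_inst f s
  haveI : IsProper (f.fiber s ↘ Spec (CommRingCat.of (S.residueField s))) := i1
  haveI : SmoothOfRelativeDimension 1 (f.fiber s ↘ Spec (CommRingCat.of (S.residueField s))) := i2
  haveI : GeometricallyConnected (f.fiber s ↘ Spec (CommRingCat.of (S.residueField s))) := i3
  have hsq : IsPullback (f.fiberι s) (f.fiberToSpecResidueField s) f (S.fromSpecResidueField s) :=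
    IsPullback.of_hasPullback _ _
  let Ps : Spec (S.residueField s) ⟶ f.fiber s :=
    pullback.lift (S.fromSpecResidueField s ≫ P) (𝟙 _) (by rw [Category.assoc, hP, Category.comp_id, Category.id_comp])
  have hPs : Ps ≫ f.fiberToSpecResidueField s = 𝟙 _ := pullback.lift_snd _ _ _
  have hc : P.ker.comap (f.fiberι s) = Ps.ker := comap_ker_section f hsq P hP Ps hPs (pullback.lift_fst _ _ _)
  obtain ⟨eI⟩ := Inters29.nonempty_pullback_idealMod_iso (f.fiberι s) P.ker (isEffCartier_sec f P hP)
    (hc.symm ▸ isEffCartier_sec (f.fiberToSpecResidueField s) Ps hPs)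
  rw [show CohIII.fiberMod f (ClSub.idealMod P.ker) s =
    (Scheme.Modules.pullback (f.fiberι s)).obj (ClSub.idealMod P.ker) from rfl,
    CurveRR24.deg_congr (S.residueField s) (eI ≪≫ eqToIso (by rw [hc])) 1]
  exact deg_idealMod_section (S.residueField s) Ps hPs

theorem genusOne_of_eulerCharLE
    (hg : ∀ s : S, @FGA.eulerCharLE (S.residueField s) _ (f.fiber s) (f.fiberOverSpecResidueField s)
      (Coh.structureModule (f.fiber s)) 1 = 0) : GenusOne f := fun s => by
  let _ := Clifford24.fibreOver f s
  obtain ⟨i1, i2, i3⟩ := fibre_inst f s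
  haveI : IsProper (f.fiber s ↘ Spec (CommRingCat.of (S.residueField s))) := i1
  haveI : SmoothOfRelativeDimension 1 (f.fiber s ↘ Spec (CommRingCat.of (S.residueField s))) := i2
  haveI : GeometricallyConnected (f.fiber s ↘ Spec (CommRingCat.of (S.residueField s))) := i3
  have h0 := h0_structure (S.residueField s) (X := f.fiber s)
  have h : FGA.eulerCharLE (S.residueField s) (f.fiber s) (Coh.structureModule (f.fiber s)) 1 = 0 := hg s
  rw [FGA.eulerCharLE] at h
  simp [Finset.sum_range_succ, h0] at h
  refine (CohBC.finrank_HH_congr (S.residueField s) (PicLoc.pullbackStructureIso (f.fiberι s)) 1).trans ?_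
  omega

variable {f} in
theorem degOne_of_dg (hg : GenusOne f) {N : X.Modules} (hN : PicF.IsInvertible N)
    (hd : ∀ s, dg f s (PicM.of hN) = 1) : DegOne f N := fun s => by
  have h := hd s
  rw [dg_of] at h
  let _ := Clifford24.fibreOver f s
  obtain ⟨i1, i2, i3⟩ := fibre_inst f s
  haveI : IsProper (f.fiber s ↘ Spec (CommRingCat.of (S.residueField s))) := i1
  haveI : SmoothOfRelativeDimension 1 (f.fiber s ↘ Spec (CommRingCat.of (S.residueField s))) := i2
  haveI : GeometricallyConnected (f.fiber s ↘ Spec (CommRingCat.of (S.residueField s))) := i3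
  have hg' : Module.finrank (S.residueField s) (Coh.HH (f.fiber s) (Coh.structureModule (f.fiber s)) 1) = 1 :=
    (CohBC.finrank_HH_congr (S.residueField s) (PicLoc.pullbackStructureIso (f.fiberι s)).symm 1).trans (hg s)
  exact h0_h1_of_deg_one (S.residueField s) hg' (isInvertible_fibre f hN s) h

theorem dg_of_eulerCharLE (hg : GenusOne f) {L : X.Modules} (hL : PicF.IsInvertible L) (s : S)
    (h : @FGA.eulerCharLE (S.residueField s) _ (f.fiber s) (f.fiberOverSpecResidueField s)
      ((Scheme.Modules.pullback (f.fiberι s)).obj L) 1 = 0) : dg f s (PicM.of hL) = 0 := by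
  rw [dg_of]
  let _ := Clifford24.fibreOver f s
  obtain ⟨i1, i2, i3⟩ := fibre_inst f s
  haveI : IsProper (f.fiber s ↘ Spec (CommRingCat.of (S.residueField s))) := i1
  haveI : SmoothOfRelativeDimension 1 (f.fiber s ↘ Spec (CommRingCat.of (S.residueField s))) := i2
  haveI : GeometricallyConnected (f.fiber s ↘ Spec (CommRingCat.of (S.residueField s))) := i3
  have hg' : Module.finrank (S.residueField s) (Coh.HH (f.fiber s) (Coh.structureModule (f.fiber s)) 1) = 1 :=
    (CohBC.finrank_HH_congr (S.residueField s) (PicLoc.pullbackStructureIso (f.fiberι s)).symm 1).trans (hg s)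
  haveI := CurveRR24.isLocallyNoetherian_of_proper (S.residueField s) (X := f.fiber s)
  rw [deg_eq_euler (S.residueField s) hg', CurveRR24.euler_eq_h0_sub_h1 (S.residueField s)
    (dim_curve (S.residueField s) (X := f.fiber s)).le _
    (CurveRR24.isCoh_of_isInvertible (S.residueField s) (isInvertible_fibre f hL s)).1]
  have h' : FGA.eulerCharLE (S.residueField s) (f.fiber s) (CohIII.fiberMod f L s) 1 = 0 := h
  rw [FGA.eulerCharLE] at h'
  simp [Finset.sum_range_succ] at h'
  exact (show _ = (0 : ℤ) by omega)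

variable {f} in
/-- A class of fibre degree one is the class of exactly one section, up to the base. -/
theorem existsUnique_rel (hg : GenusOne f) (a : PicM X) (hd : ∀ s, dg f s a = 1) :
    ∃! P : S ⟶ X, ∃ hP : P ≫ f = 𝟙 S, Rel f a P hP := by
  obtain ⟨N, hN, rfl⟩ := PicM.exists_eq_of a
  obtain ⟨P, hP, hr⟩ := exists_rel hg hN (degOne_of_dg hg hN hd)
  exact ⟨P, ⟨hP, hr⟩, fun P' ⟨hP', hr'⟩ => Rel.unique hg hN (degOne_of_dg hg hN hd) hr' hr⟩

end Groth.Agent.EllGrp5
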