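import Groth.Agent.EllGrp5.Curve
import Groth.Agent.EllGrp5.Sec
import Groth.Agent.FlatMor12.Cube.Seesaw
import Groth.Agent.SDiv28.FibreCartier
import Groth.Agent.DivCurve29.Relative
import Groth.Agent.DivCurve29.Rank
import Groth.Agent.Coherent.CohBC.FibreInvariance
import Groth.Agent.Clifford24.SmoothFamily

/-!
# Degree one modules on families of genus one curves

The direct image is invertible and commutes with base change; the zero scheme of a generating section
is a section of the family.
-/

set_option autoImplicit false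
set_option linter.style.haveILetI false
set_option linter.unusedSectionVars false
set_option backward.isDefEq.respectTransparency.types false

universe u

open CategoryTheory CategoryTheory.Limits AlgebraicGeometry Opposite TopologicalSpace
open Groth.Agent.Coherent Groth.Agent.PicLib Groth.Agent.AmpleLib Groth.Agent.CubeLib

namespace Groth.Agent.EllGrp5

variable {X S : Scheme.{u}} (f : X ⟶ S)

/-- `H¹` of the structure sheaves of the fibres is one dimensional. -/
def GenusOne : Prop := ∀ s : S, CohIII.fiberRank f (Coh.structureModule X) 1 s = 1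

/-- The fibres have one section and no `H¹`. -/
def DegOne (N : X.Modules) : Prop :=
  ∀ s : S, CohIII.fiberRank f N 0 s = 1 ∧ CohIII.fiberRank f N 1 s = 0

/-- A section generating the direct image. -/
def GenSec (N : X.Modules) (t : Γ(N, ⊤)) : Prop :=
  IsGen ((Scheme.Modules.pushforward f).obj N) ⊤ (show Γ((Scheme.Modules.pushforward f).obj N, ⊤) from t)

theorem isGen_map_iso {A B : X.Modules} (φ : A ⟶ B) [IsIso φ] {U : X.Opens} {t : Γ(A, U)} (ht : IsGen A U t) :
    IsGen B U (φ.app U t) := by
  intro V hV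
  have : (fun r : Γ(X, V) => r • resM B hV (φ.app U t)) = (φ.app V) ∘ fun r => r • resM A hV t := by
    funext r
    show r • _ = φ.app V (r • _)
    rw [Scheme.Modules.Hom.app_smul, app_resM]
  rw [this]
  exact (ConcreteCategory.bijective_of_isIso (φ.app V)).comp (ht V hV)

theorem isInvertible_fibre {N : X.Modules} (hN : PicF.IsInvertible N) (s : S) :
    PicF.IsInvertible (CohIII.fiberMod f N s) := PicLoc.isInvertible_pullback (f.fiberι s) hN

section BaseChange

variable {f}
variable {T XT : Scheme.{u}} {g : T ⟶ S} {g' : XT ⟶ X} {f' : XT ⟶ T}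

theorem GenusOne.baseChange [IsProper f] (hg : GenusOne f) (h : IsPullback g' f' f g) : GenusOne f' := fun t => by
  haveI : Coh.IsQCoh (Coh.structureModule X) := isQCoh_structureModule (X := X)
  obtain ⟨e⟩ := exists_pullStructureIso g'
  refine (CohBC.finrank_HH_congr (T.residueField t) ((Scheme.Modules.pullback (f'.fiberι t)).mapIso e.symm) 1).trans ?_
  exact (CohBC.fiberRank_pullback h (Coh.structureModule X) 1 t).trans (hg _)

theorem DegOne.baseChange [IsProper f] {N : X.Modules} (hd : DegOne f N) (hN : PicF.IsInvertible N)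
    (h : IsPullback g' f' f g) : DegOne f' ((Scheme.Modules.pullback g').obj N) := fun t => by
  haveI := H8Coh.FibreAmple.isQCoh_of_invertible hN
  exact ⟨(CohBC.fiberRank_pullback h N 0 t).trans (hd _).1, (CohBC.fiberRank_pullback h N 1 t).trans (hd _).2⟩

theorem DegOne.congr {N N' : X.Modules} (hd : DegOne f N) (e : N ≅ N') : DegOne f N' := fun s =>
  ⟨(CohBC.finrank_HH_congr (S.residueField s) ((Scheme.Modules.pullback (f.fiberι s)).mapIso e.symm) 0).trans (hd s).1,
    (CohBC.finrank_HH_congr (S.residueField s) ((Scheme.Modules.pullback (f.fiberι s)).mapIso e.symm) 1).trans (hd s).2⟩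

end BaseChange

section Push

variable [IsProper f] [Flat f] [LocallyOfFinitePresentation f] {N : X.Modules}

theorem exists_flat_chart (hN : PicF.IsInvertible N) (hd : DegOne f N) (s : S) :
    ∃ C : CohExch.Chart f N, s ∈ C.U ∧ C.Flat ((0 : ℕ) : ℤ) := by
  haveI := H8Coh.FibreAmple.isQCoh_of_invertible hN
  obtain ⟨C, hC, -, -, h0, -⟩ := CohExch.exists_zero_chart (H8Coh.FibreAmple.isFP_of_invertible hN)
    (CohBC.isFlatOver_of_isFinLocFree f fun x =>
      let ⟨U, hx, e⟩ := PicLib.isFinLocFreeOfRank_one hN x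
      ⟨U, 1, hx, e⟩) (V := ⊤) (s := s) trivial 1
    ((CohExch.subsingleton_fiberH_iff_rank (H8Coh.FibreAmple.isFP_of_invertible hN) s 1).2 (hd s).2)
  exact ⟨C, hC, by simpa using h0⟩

theorem isInvertible_push (hN : PicF.IsInvertible N) (hd : DegOne f N) :
    PicF.IsInvertible ((Scheme.Modules.pushforward f).obj N) := by
  haveI := H8Coh.FibreAmple.isQCoh_of_invertible hN
  refine isInvertible_of_gens fun s => ?_
  obtain ⟨C, hC, h0⟩ := exists_flat_chart f hN hd s
  obtain ⟨W, n, hW, ⟨e⟩⟩ := C.exists_trivial_nhd0 h0 hC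
  have hn : n = 1 := (C.fiberRank_eq_of_free (CohBC.isFlatOver_of_isFinLocFree f fun x =>
      let ⟨U, hx, e⟩ := PicLib.isFinLocFreeOfRank_one hN x
      ⟨U, 1, hx, e⟩) h0 hC hW e).symm.trans (hd s).1
  subst hn
  obtain ⟨m, hm⟩ := exists_isGen_of_iso (e ≪≫ freeModOneIso _)
  exact ⟨W, hW, m, hm⟩

theorem isIso_bc0 (hN : PicF.IsInvertible N) (hd : DegOne f N) {T XT : Scheme.{u}} {g : T ⟶ S} {g' : XT ⟶ X}
    {f' : XT ⟶ T} (h : IsPullback g' f' f g) : IsIso (CohBC.bc0 f g f' g' h.w N) := by
  haveI := H8Coh.FibreAmple.isQCoh_of_invertible hN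
  exact CohExch.isIso_bc0_of_flat h fun z => exists_flat_chart f hN hd (g z)

/-- A trivial direct image has a generating section. -/
theorem exists_genSec {N : X.Modules} (e : Coh.structureModule S ≅ (Scheme.Modules.pushforward f).obj N) :
    ∃ t : Γ(N, ⊤), GenSec f N t :=
  ⟨(show Γ(N, ⊤) from e.hom.app ⊤ (oneSec ⊤)), isGen_map_iso e.hom (isGen_oneSec ⊤)⟩

/-- A generating section does not vanish on any fibre. -/
theorem GenSec.fibre_ne_zero {t : Γ(N, ⊤)} (ht : GenSec f N t) (hN : PicF.IsInvertible N) (hd : DegOne f N)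
    (s : S) :
    resM (CohIII.fiberMod f N s) (show (⊤ : (f.fiber s).Opens) ≤ f.fiberι s ⁻¹ᵁ ⊤ from le_top)
      (pullSec (f.fiberι s) t) ≠ 0 := by
  intro h0
  let ξ := S.fromSpecResidueField s
  have hsq : IsPullback (f.fiberι s) (f.fiberToSpecResidueField s) f ξ :=
    IsPullback.of_hasPullback f (S.fromSpecResidueField s)
  haveI := isIso_bc0 f hN hd hsq
  have h1 := CohExch.bc0_pullSec hsq.w N ⊤ t
  have h2 : pullSec (f.fiberι s) t = 0 := by
    have := congrArg (resM (CohIII.fiberMod f N s)
      (show f.fiberι s ⁻¹ᵁ (⊤ : X.Opens) ≤ (⊤ : (f.fiber s).Opens) from le_top)) h0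
    rwa [resM_resM, resM_self, map_zero] at this
  erw [h2, map_zero] at h1
  have h3 : pullSec ξ (show Γ((Scheme.Modules.pushforward f).obj N, ⊤) from t) = 0 :=
    (ConcreteCategory.bijective_of_isIso
      ((CohBC.bc0 f ξ (f.fiberToSpecResidueField s) (f.fiberι s) hsq.w N).app (ξ ⁻¹ᵁ ⊤))).1 (h1.trans (map_zero _).symm)
  have hgen := isGen_pullSec ξ (U := ⊤) (show IsGen _ ⊤ _ from ht) (isInvertible_push f hN hd)
  rw [h3] at hgen
  haveI : Nonempty (ξ ⁻¹ᵁ (⊤ : S.Opens) : (Spec (S.residueField s)).Opens) :=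
    ⟨⟨IsLocalRing.closedPoint (S.residueField s), trivial⟩⟩
  exact one_ne_zero (α := Γ(Spec (S.residueField s), ξ ⁻¹ᵁ (⊤ : S.Opens)))
    ((hgen (ξ ⁻¹ᵁ ⊤) le_rfl).1 (by simp only [map_zero, smul_zero]))

end Push

variable [IsProper f] [SmoothOfRelativeDimension 1 f] [GeometricallyConnected f]

theorem smooth_f : Smooth f := SmoothOfRelativeDimension.smooth 1 f

theorem fibre_inst (s : S) :
    IsProper (f.fiberToSpecResidueField s) ∧ SmoothOfRelativeDimension 1 (f.fiberToSpecResidueField s) ∧
      GeometricallyConnected (f.fiberToSpecResidueField s) :=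
  ⟨MorphismProperty.pullback_snd (P := @IsProper) _ _ inferInstance,
    haveI := smoothOfRelativeDimension_isStableUnderBaseChange.{u} 1
    MorphismProperty.pullback_snd (P := @SmoothOfRelativeDimension 1) _ _ inferInstance,
    MorphismProperty.pullback_snd (P := @GeometricallyConnected) _ _ inferInstance⟩

variable {f} in
/-- On each fibre the zero scheme of a generating section is a rational point. -/
theorem GenSec.fibre_section {N : X.Modules} {t : Γ(N, ⊤)} (ht : GenSec f N t) (hg : GenusOne f)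
    (hN : PicF.IsInvertible N) (hd : DegOne f N) (s : S) :
    ∃ σ : Spec (S.residueField s) ⟶ f.fiber s, σ ≫ f.fiberToSpecResidueField s = 𝟙 _ ∧
      (zeroOf N t).comap (f.fiberι s) = σ.ker := by
  haveI := smooth_f f
  letI := Clifford24.fibreOver f s
  obtain ⟨i1, i2, i3⟩ := fibre_inst f s
  haveI : IsProper (f.fiber s ↘ Spec (CommRingCat.of (S.residueField s))) := i1
  haveI : SmoothOfRelativeDimension 1 (f.fiber s ↘ Spec (CommRingCat.of (S.residueField s))) := i2
  haveI : GeometricallyConnected (f.fiber s ↘ Spec (CommRingCat.of (S.residueField s))) := i3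
  have hg' : Module.finrank (S.residueField s) (Coh.HH (f.fiber s) (Coh.structureModule (f.fiber s)) 1) = 1 :=
    (CohBC.finrank_HH_congr (S.residueField s) (PicLoc.pullbackStructureIso (f.fiberι s)).symm 1).trans (hg s)
  have hNs := isInvertible_fibre f hN s
  have hdeg := deg_of_h0_h1 (S.residueField s) hg' hNs (hd s).1 (hd s).2
  obtain ⟨σ, hσ, hz⟩ := exists_section_zeroOf (S.residueField s) hg' hNs hdeg (ht.fibre_ne_zero f hN hd s)
  exact ⟨σ, hσ, (comap_zeroOf hN (f.fiberι s) t).trans hz⟩

theorem isSplit_mono_of_effCartier {N : X.Modules} (hN : PicF.IsInvertible N) (t : Γ(N, ⊤))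
    (hD : BlowUp.IsEffCartierIdeal (zeroOf N t)) : Mono (unitDesc N t) := by
  refine SerreDual.mono_of_app_injective _ fun V => (injective_iff_map_eq_zero _).2 fun r hr => ?_
  let r' : Γ(X, V) := r
  have hr' : r' • resM N (le_top : V ≤ ⊤) t = 0 := (CurveRR24.unitDesc_app N t V r').symm.trans hr
  suffices h : r' = 0 from h
  refine TopCat.Presheaf.section_ext X.sheaf V r' 0 fun z hz => ?_
  obtain ⟨U, e, hzU, he⟩ := exists_affine_gen hN z
  let W := V ⊓ U.1
  have hWV : W ≤ V := inf_le_left
  have hWU : W ≤ U.1 := inf_le_right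
  have h1 : res hWV r' = 0 := by
    refine FlatMor12.IdealModGen.isLeftRegular_res U.2
      (isRegular_iff_mem_nonZeroDivisors.2 (BlowUpLib.mem_nonZeroDivisors_of_eff hD (zeroOf_ideal hN t U he))).left
      hWU ?_
    show res hWU _ * res hWV r' = res hWU _ * 0
    rw [mul_zero]
    refine ((he.restrict hWU) W le_rfl).1 ?_
    show (res hWU _ * res hWV r') • resM N le_rfl (resM N hWU e) = (0 : Γ(X, W)) • resM N le_rfl (resM N hWU e)
    have hcs := he.coef_spec le_rfl (resM N le_top t)
    rw [resM_self] at hcs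
    rw [resM_self, zero_smul, mul_comm, mul_smul, ← resM_smul, hcs, resM_resM]
    have h2 := congrArg (resM N hWV) hr'
    rw [resM_smul, resM_resM, map_zero] at h2
    exact h2
  have := congrArg (X.presheaf.germ W z ⟨hz, hzU⟩) h1
  rw [TopCat.Presheaf.germ_res_apply, map_zero] at this
  exact this.trans (map_zero _).symm

set_option backward.isDefEq.respectTransparency false in
theorem isPullback_comap_fibre {X S : Scheme.{u}} (f : X ⟶ S) (D : X.IdealSheafData) (s : S) :
    IsPullback ((D.comapIso (f.fiberι s)).hom ≫ pullback.snd (f.fiberι s) D.subschemeι)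
      ((D.comap (f.fiberι s)).subschemeι ≫ f.fiberToSpecResidueField s) (D.subschemeι ≫ f)
      (S.fromSpecResidueField s) := by
  refine (IsPullback.of_hasPullback _ _).flip.paste_vert (IsPullback.of_hasPullback f _)
    |>.of_iso (D.comapIso (f.fiberι s)).symm (Iso.refl _) (Iso.refl _) (Iso.refl _) ?_ ?_ ?_ ?_
  · rw [Iso.refl_hom, Category.comp_id, Iso.symm_hom, Iso.inv_hom_id_assoc]; rfl
  · rw [Iso.refl_hom, Category.comp_id, Iso.symm_hom,
      Scheme.IdealSheafData.comapIso_inv_subschemeι_assoc]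
    rfl
  · simp
  · simp

variable {f} in
/-- The zero scheme of a generating section is a section of the family. -/
theorem GenSec.exists_section {N : X.Modules} {t : Γ(N, ⊤)} (ht : GenSec f N t) (hg : GenusOne f)
    (hN : PicF.IsInvertible N) (hd : DegOne f N) :
    ∃ P : S ⟶ X, ∃ hP : P ≫ f = 𝟙 S, zeroOf N t = P.ker ∧ PicM.of hN * idl f P hP = 1 := by
  haveI := smooth_f f
  let D := zeroOf N t
  have hfib : ∀ s : S, BlowUp.IsEffCartierIdeal (D.comap (f.fiberι s)) := fun s => by
    obtain ⟨σ, hσ, hz⟩ := ht.fibre_section hg hN hd s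
    obtain ⟨i1, i2, i3⟩ := fibre_inst f s
    rw [hz]
    exact isEffCartier_sec (f.fiberToSpecResidueField s) σ hσ
  have hpr : Curv2.IsLocPrincipal D := fun x _ => by
    obtain ⟨U, e, hxU, he⟩ := exists_affine_gen hN x
    exact ⟨U, hxU, _, zeroOf_ideal hN t U he⟩
  obtain ⟨hD, hflat⟩ := SDiv28.FibreCartier.isRelEffCartier f D hpr hfib
  haveI := hflat
  haveI := DivCurve29.locallyQuasiFinite f D hD
  haveI : IsFinite (D.subschemeι ≫ f) := IsFinite.of_isProper_of_locallyQuasiFinite _
  haveI : LocallyOfFinitePresentation (D.subschemeι ≫ f) := DivCurve29.lfp_of_isEffCartier f D hD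
  have hrank : (D.subschemeι ≫ f).finrank = 1 := by
    funext s
    obtain ⟨σ, hσ, hz⟩ := ht.fibre_section hg hN hd s
    let c := f.fiberToSpecResidueField s
    let pt : Spec (S.residueField s) := IsLocalRing.closedPoint (S.residueField s)
    have hpt : S.fromSpecResidueField s pt = s := S.fromSpecResidueField_apply s pt
    have sq := isPullback_comap_fibre f D s
    haveI : IsFinite ((D.comap (f.fiberι s)).subschemeι ≫ c) :=
      MorphismProperty.of_isPullback (P := @IsFinite) sq inferInstance
    haveI : IsIso ((D.comap (f.fiberι s)).subschemeι ≫ c) := by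
      obtain ⟨i1, i2, i3⟩ := fibre_inst f s
      haveI := isClosedImmersion_section c σ hσ
      rw [hz]
      have e : σ.ker.subschemeι ≫ c = inv σ.toImage := by
        apply (cancel_epi σ.toImage).1
        rw [← Category.assoc]
        simp [hσ, c]
      rw [e]
      infer_instance
    conv_lhs => rw [← hpt]
    rw [← Scheme.Hom.finrank_of_isPullback _ _ _ _ sq pt, Scheme.Hom.finrank_eq_one_of_isIso]
    rfl
  haveI : IsIso (D.subschemeι ≫ f) := (Scheme.Hom.isIso_iff_finrank_eq _).2 hrank
  let P : S ⟶ X := inv (D.subschemeι ≫ f) ≫ D.subschemeι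
  have hP : P ≫ f = 𝟙 S := by simp [P]
  have hker : P.ker = D := by rw [Scheme.Hom.ker_comp_of_isIso, Scheme.IdealSheafData.ker_subschemeι]
  refine ⟨P, hP, hker.symm, ?_⟩
  haveI := isSplit_mono_of_effCartier hN t hD
  rw [idl, PicM.of_mul, PicM.of_eq_one_iff]
  obtain ⟨e⟩ := Lef23.isInverseOf_zeroScheme hN (unitDesc N t)
  exact ⟨AmpleLib.tensorIso (Iso.refl N) (eqToIso (by rw [hker]; rfl)) ≪≫ e⟩

variable {f} in
/-- A section inverse to a module with a generating section is its zero scheme. -/
theorem GenSec.ker_eq {N : X.Modules} {t : Γ(N, ⊤)} (ht : GenSec f N t) (hg : GenusOne f)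
    (hN : PicF.IsInvertible N) (hd : DegOne f N) (P : S ⟶ X) (hP : P ≫ f = 𝟙 S)
    (h : PicM.of hN * idl f P hP = 1) : P.ker = zeroOf N t := by
  haveI := smooth_f f
  rw [idl, PicM.of_mul, PicM.of_eq_one_iff] at h
  obtain ⟨t', ht'⟩ := exists_section_eq P.ker (isEffCartier_sec f P hP) hN h
  obtain ⟨a, ha⟩ := (ht ⊤ le_rfl).2 (show Γ((Scheme.Modules.pushforward f).obj N, ⊤) from t')
  have ha' : HSMul.hSMul (α := Γ(X, (⊤ : X.Opens))) (f.appTop a) t = t' := by
    have ha2 : a • resM ((Scheme.Modules.pushforward f).obj N) (le_refl (⊤ : S.Opens))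
      (show Γ((Scheme.Modules.pushforward f).obj N, ⊤) from t) = (show Γ((Scheme.Modules.pushforward f).obj N, ⊤) from t') := ha
    rw [resM_self] at ha2
    exact ha2
  have hu : ∀ s : S, s ∈ S.basicOpen a := fun s => by
    by_contra hs
    obtain ⟨σ, hσ, hz⟩ := ht.fibre_section hg hN hd s
    obtain ⟨i1, i2, i3⟩ := fibre_inst f s
    let ξ := S.fromSpecResidueField s
    have hξ : ξ.app ⊤ a = 0 := by
      by_contra hne
      have hu : IsUnit (show Γ(Spec (S.residueField s), ⊤) from ξ.app ⊤ a) := by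
        obtain ⟨c, hc⟩ := (CohExch.isField_Γ_spec (S.residueField s)).mul_inv_cancel hne
        exact IsUnit.of_mul_eq_one _ hc
      have hmem : (IsLocalRing.closedPoint (S.residueField s) : Spec (S.residueField s)) ∈
          ξ ⁻¹ᵁ S.basicOpen a := by
        rw [Scheme.preimage_basicOpen]
        erw [Scheme.basicOpen_of_isUnit _ hu]
        trivial
      have hmem' : ξ (IsLocalRing.closedPoint (S.residueField s)) ∈ S.basicOpen a := hmem
      rw [show ξ (IsLocalRing.closedPoint (S.residueField s)) = s from S.fromSpecResidueField_apply s _] at hmem'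
      exact hs hmem'
    have hz0 : resM (CohIII.fiberMod f N s) (show (⊤ : (f.fiber s).Opens) ≤ f.fiberι s ⁻¹ᵁ ⊤ from le_top)
        (pullSec (f.fiberι s) t') = 0 := by
      have e : (f.fiberι s).app ⊤ (f.app ⊤ a) = (f.fiberToSpecResidueField s).app ⊤ (ξ.app ⊤ a) := by
        show (f.fiberι s ≫ f).appTop a = (f.fiberToSpecResidueField s ≫ ξ).appTop a
        rw [f.fiber_fac s]
      rw [← ha', pullSec_smul]
      erw [e, hξ, map_zero]
      erw [zero_smul, map_zero]
    have h1 := comap_zeroOf hN (f.fiberι s) t'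
    rw [ht', hz0] at h1
    have h2 : BlowUp.IsEffCartierIdeal (zeroOf (CohIII.fiberMod f N s) 0) := by
      rw [← h1]
      let Ps : Spec (S.residueField s) ⟶ f.fiber s :=
        pullback.lift (ξ ≫ P) (𝟙 _) (by rw [Category.assoc, hP, Category.comp_id, Category.id_comp])
      have hc := comap_ker_section f (IsPullback.of_hasPullback f ξ) P hP Ps (pullback.lift_snd _ _ _)
        (pullback.lift_fst _ _ _)
      rw [show P.ker.comap (f.fiberι s) = Ps.ker from hc]
      exact isEffCartier_sec (f.fiberToSpecResidueField s) Ps (pullback.lift_snd _ _ _)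
    let x : f.fiber s := σ (IsLocalRing.closedPoint (S.residueField s))
    obtain ⟨U, e, hxU, he⟩ := exists_affine_gen (isInvertible_fibre f hN s) x
    haveI : Nonempty U.1 := ⟨⟨x, hxU⟩⟩
    have h3 := zeroOf_ideal (isInvertible_fibre f hN s) (0 : Γ(CohIII.fiberMod f N s, ⊤)) U he
    rw [he.coef_eq le_rfl (r := 0) (by rw [map_zero, zero_smul])] at h3
    have h4 := BlowUpLib.mem_nonZeroDivisors_of_eff h2 h3
    exact one_ne_zero (α := Γ(f.fiber s, U.1)) (h4.2 1 (by rw [mul_zero]))
  have hau : IsUnit a :=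
    S.toRingedSpace.isUnit_of_isUnit_germ ⊤ a fun s _ => (S.mem_basicOpen a (x := s) trivial).1 (hu s)
  rw [← ht', ← ha']
  exact zeroOf_smul_isUnit hN (hau.map (f.app ⊤).hom) t

end Groth.Agent.EllGrp5
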