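import Groth.Agent.EllGrp5.Group
import Groth.Agent.Unram17Lib.RelDim
import Groth.Agent.GenSmoothLib.SmoothDim

/-!
# Genus one curves over a field as families
-/

set_option autoImplicit false
set_option linter.style.haveILetI false
set_option linter.unusedSectionVars false
set_option backward.isDefEq.respectTransparency.types false

universe u

open CategoryTheory CategoryTheory.Limits AlgebraicGeometry
open Groth.Agent.Coherent

namespace Groth.Agent.EllGrp5

variable {k : Type u} [Field k] {X : Scheme.{u}} (q : X ⟶ Spec (CommRingCat.of k))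

theorem smoothRD_of_dim [Smooth q] [IrreducibleSpace X] (hdim : topologicalKrullDim X = 1) :
    SmoothOfRelativeDimension 1 q := by
  choose V n hxV hn using fun x => Unram17Lib.exists_smoothOfRelativeDimension q x
  have h1 : ∀ x, n x = 1 := fun x => by
    have := hn x
    have h := Unram17Lib.localDim_of_smoothOfRelativeDimension k ((V x).ι ≫ q) (n x) ⟨x, hxV x⟩
    have := (V x).ι.isOpenEmbedding.quasiSober
    rw [AlgSpLib.localDim_eq_of_map (V x).ι.continuous (V x).ι.isOpenEmbedding.isOpenMap
      (V x).ι.isOpenEmbedding.generalizingMap (fun a a' _ e => (V x).ι.isOpenEmbedding.injective e) _] at h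
    have h2 := GenSmoothLib.localDim_eq_topologicalKrullDim q ((V x).ι ⟨x, hxV x⟩)
    rw [h, hdim] at h2
    exact_mod_cast h2
  refine IsZariskiLocalAtSource.of_iSup_eq_top (P := @SmoothOfRelativeDimension 1) V ?_ fun x => ?_
  · exact eq_top_iff.2 fun x _ => TopologicalSpace.Opens.mem_iSup.2 ⟨x, hxV x⟩
  · have := hn x
    rwa [h1 x] at this

/-- Over a field the genus condition is that on `H¹(X, O)`. -/
theorem fiberRank_of_field [IsProper q] (p : ℕ) (s : Spec (CommRingCat.of k)) :
    CohIII.fiberRank q (Coh.structureModule X) p s =
      @Module.finrank k (Coh.HH X (Coh.structureModule X) p) _ _ (Module.compHom _ (Coh.toGlobal q)) := by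
  haveI : Coh.IsQCoh (Coh.structureModule X) := isQCoh_structureModule (X := X)
  haveI : CompactSpace X := QuasiCompact.compactSpace_of_compactSpace q
  haveI : QuasiSeparatedSpace X :=
    (HasAffineProperty.iff_of_isAffine (P := @QuasiSeparated) (f := q)).mp inferInstance
  refine CohBC.finrank_HH_bc k ((Spec (CommRingCat.of k)).residueField s)
    (Spec.preimage ((Spec (CommRingCat.of k)).fromSpecResidueField s)).hom q (q.fiberToSpecResidueField s)
    (q.fiberι s) ?_ (Coh.structureModule X) _ (Iso.refl _) p
  rw [show CommRingCat.ofHom (Spec.preimage ((Spec (CommRingCat.of k)).fromSpecResidueField s)).hom =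
    Spec.preimage ((Spec (CommRingCat.of k)).fromSpecResidueField s) from rfl, Spec.map_preimage]
  exact IsPullback.of_hasPullback q _

end Groth.Agent.EllGrp5
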