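import Groth.Agent.EllGrp5.Degree
import Mathlib.CategoryTheory.Monoidal.Cartesian.CommGrp_
import Mathlib.CategoryTheory.Monoidal.Cartesian.Over

/-!
# The group law of a family of genus one curves with a section
-/

set_option autoImplicit false
set_option linter.style.haveILetI false
set_option linter.unusedSectionVars false
set_option backward.isDefEq.respectTransparency.types false

universe u

open CategoryTheory CategoryTheory.Limits MonoidalCategory CartesianMonoidalCategory AlgebraicGeometry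
open scoped MonObj
open Groth.Agent.PicLib

namespace Groth.Agent.EllGrp5

variable {E S : Scheme.{u}} (f : E ⟶ S) [IsProper f] [SmoothOfRelativeDimension 1 f] [GeometricallyConnected f]
  (σ : S ⟶ E) (hσ : σ ≫ f = 𝟙 S)

/-- The ideal class of the graph of a point. -/
noncomputable def cls {T : Over S} (P : T ⟶ Over.mk f) : PicM (pullback f T.hom) :=
  idl (pullback.snd f T.hom) (ptSec f T.hom P.left (Over.w P)) (ptSec_snd f T.hom P.left (Over.w P))

/-- The pulled back base point. -/
noncomputable def one' (T : Over S) : T ⟶ Over.mk f :=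
  Over.homMk (T.hom ≫ σ) (by
    show (T.hom ≫ σ) ≫ f = T.hom
    rw [Category.assoc, hσ, Category.comp_id])

/-- `P + Q = R` up to classes from the base. -/
def MulRel {T : Over S} (P Q R : T ⟶ Over.mk f) : Prop :=
  ∃ b : PicM T.left, cls f P * cls f Q = cls f R * cls f (one' f σ hσ T) * PicM.pull (pullback.snd f T.hom) b

theorem dg_cls {T : Over S} (P : T ⟶ Over.mk f) (t : T.left) : dg (pullback.snd f T.hom) t (cls f P) = -1 :=
  dg_idl _ _ _ t

theorem exists_point {T : Over S} (hg : GenusOne f) (a : PicM (pullback f T.hom))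
    (ha : ∀ t, dg (pullback.snd f T.hom) t a = 1) :
    ∃ R : T ⟶ Over.mk f, ∃ b : PicM T.left, a * cls f R = PicM.pull (pullback.snd f T.hom) b := by
  obtain ⟨P, ⟨hP, b, hb⟩, -⟩ :=
    existsUnique_rel (hg.baseChange (IsPullback.of_hasPullback f T.hom)) a ha
  let R : T ⟶ Over.mk f := Over.homMk (P ≫ pullback.fst f T.hom) (by
    show (P ≫ pullback.fst f T.hom) ≫ f = T.hom
    rw [Category.assoc, pullback.condition, ← Category.assoc, hP, Category.id_comp])
  refine ⟨R, b, ?_⟩
  have he : ptSec f T.hom R.left (Over.w R) = P :=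
    pullback.hom_ext (ptSec_fst _ _ _ _) ((ptSec_snd _ _ _ _).trans hP.symm)
  simp only [cls, he]
  exact hb

theorem point_unique {T : Over S} (hg : GenusOne f) {R R' : T ⟶ Over.mk f} {b : PicM T.left}
    (h : cls f R' = cls f R * PicM.pull (pullback.snd f T.hom) b) : R = R' := by
  obtain ⟨a, ha⟩ := PicM.exists_mul_eq_one (cls f R)
  have hd : ∀ t, dg (pullback.snd f T.hom) t a = 1 := fun t => by
    rw [dg_inv _ ha t, dg_cls]; rfl
  obtain ⟨P, -, hu⟩ := existsUnique_rel (hg.baseChange (IsPullback.of_hasPullback f T.hom)) a hd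
  have e1 := hu (ptSec f T.hom R.left (Over.w R)) ⟨ptSec_snd _ _ _ _, 1, by rw [map_one, mul_comm]; exact ha⟩
  have e2 := hu (ptSec f T.hom R'.left (Over.w R')) ⟨ptSec_snd _ _ _ _, b, by
    show a * cls f R' = _
    rw [h, ← mul_assoc, mul_comm a, ha, one_mul]⟩
  refine Over.OverMorphism.ext ?_
  have := congrArg (fun x => x ≫ pullback.fst f T.hom) (e1.trans e2.symm)
  exact (ptSec_fst f T.hom R.left (Over.w R)).symm.trans (this.trans (ptSec_fst f T.hom R'.left (Over.w R')))

theorem MulRel.unique (hg : GenusOne f) {T : Over S} {P Q R R' : T ⟶ Over.mk f} (h : MulRel f σ hσ P Q R)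
    (h' : MulRel f σ hσ P Q R') : R = R' := by
  obtain ⟨b, hb⟩ := h
  obtain ⟨b', hb'⟩ := h'
  obtain ⟨c, hc⟩ := PicM.exists_mul_eq_one b'
  refine point_unique f hg (b := b * c) ?_
  have h2 : cls f R' * PicM.pull (pullback.snd f T.hom) b' = cls f R * PicM.pull (pullback.snd f T.hom) b := by
    refine mul_right_cancel (b := cls f (one' f σ hσ T)) ?_
    rw [mul_right_comm, ← hb', hb, mul_right_comm]
  rw [map_mul, ← mul_assoc, ← h2, mul_assoc, ← map_mul, hc, map_one, mul_one]

theorem exists_mulRel (hg : GenusOne f) {T : Over S} (P Q : T ⟶ Over.mk f) : ∃ R, MulRel f σ hσ P Q R := by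
  obtain ⟨jP, hjP⟩ := PicM.exists_mul_eq_one (cls f P)
  obtain ⟨jQ, hjQ⟩ := PicM.exists_mul_eq_one (cls f Q)
  obtain ⟨R, b, hb⟩ := exists_point f hg (cls f (one' f σ hσ T) * jP * jQ) (fun t => by
    rw [dg_mul, dg_mul, dg_inv _ hjP t, dg_inv _ hjQ t, dg_cls, dg_cls, dg_cls]; rfl)
  obtain ⟨c, hc⟩ := PicM.exists_mul_eq_one b
  refine ⟨R, c, ?_⟩
  calc cls f P * cls f Q = cls f P * cls f Q * PicM.pull (pullback.snd f T.hom) (b * c) := by
        rw [hc, map_one, mul_one]
    _ = (cls f P * jP) * (cls f Q * jQ) * (cls f R * cls f (one' f σ hσ T) * PicM.pull (pullback.snd f T.hom) c) := by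
        rw [map_mul, ← hb]; ac_rfl
    _ = _ := by rw [hjP, hjQ, one_mul, one_mul]

theorem exists_inv (hg : GenusOne f) {T : Over S} (P : T ⟶ Over.mk f) :
    ∃ R, MulRel f σ hσ R P (one' f σ hσ T) := by
  obtain ⟨j, hj⟩ := PicM.exists_mul_eq_one (cls f (one' f σ hσ T))
  obtain ⟨R, b, hb⟩ := exists_point f hg (cls f P * j * j) (fun t => by
    rw [dg_mul, dg_mul, dg_inv _ hj t, dg_cls, dg_cls]; rfl)
  refine ⟨R, b, ?_⟩
  calc cls f R * cls f P = (cls f (one' f σ hσ T) * j) * (cls f (one' f σ hσ T) * j) * (cls f P * cls f R) := by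
        rw [hj, one_mul, one_mul, mul_comm]
    _ = _ := by rw [← hb]; ac_rfl

theorem MulRel.precomp {T T' : Over S} {P Q R : T ⟶ Over.mk f} (h : MulRel f σ hσ P Q R) (g : T' ⟶ T) :
    MulRel f σ hσ (g ≫ P) (g ≫ Q) (g ≫ R) := by
  obtain ⟨b, hb⟩ := h
  let g' : pullback f T'.hom ⟶ pullback f T.hom :=
    pullback.lift (pullback.fst f T'.hom) (pullback.snd f T'.hom ≫ g.left)
      (by rw [Category.assoc, Over.w]; exact pullback.condition)
  have hsq : IsPullback g' (pullback.snd f T'.hom) (pullback.snd f T.hom) g.left :=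
    IsPullback.of_right (by rw [pullback.lift_fst, Over.w]; exact IsPullback.of_hasPullback f T'.hom)
      (pullback.lift_snd _ _ _) (IsPullback.of_hasPullback f T.hom)
  have key : ∀ P : T ⟶ Over.mk f, PicM.pull g' (cls f P) = cls f (g ≫ P) := fun P => by
    refine pull_idl _ hsq _ _ _ _ (pullback.hom_ext ?_ ?_)
    · simp only [g', Category.assoc, pullback.lift_fst]
      exact (ptSec_fst _ _ _ _).trans (congrArg (g.left ≫ ·) (ptSec_fst f T.hom P.left (Over.w P))).symm
    · simp only [g', Category.assoc, pullback.lift_snd]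
      refine ((Category.assoc _ _ _).symm.trans (congrArg (· ≫ g.left) (ptSec_snd _ _ _ _))).trans ?_
      exact (Category.id_comp g.left).trans ((Category.comp_id g.left).symm.trans
        (congrArg (g.left ≫ ·) (ptSec_snd f T.hom P.left (Over.w P)).symm))
  have hone : g ≫ one' f σ hσ T = one' f σ hσ T' := Over.OverMorphism.ext (by
    show g.left ≫ T.hom ≫ σ = T'.hom ≫ σ
    rw [← Category.assoc, Over.w])
  refine ⟨PicM.pull g.left b, ?_⟩
  rw [← key P, ← key Q, ← key R, ← hone, ← key, ← map_mul, hb, map_mul, map_mul, PicM.pull_pull, hsq.w,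
    ← PicM.pull_pull]

/-- The points with the group law. -/
def Pts (f : E ⟶ S) (T : Over S) : Type u := T ⟶ Over.mk f

variable {f} in
/-- The commutative group of points. -/
noncomputable abbrev ptsGroup (hg : GenusOne f) (T : Over S) : CommGroup (Pts f T) :=
  letI mul' : Pts f T → Pts f T → Pts f T := fun P Q => (exists_mulRel f σ hσ hg P Q).choose
  have hm : ∀ P Q, MulRel f σ hσ P Q (mul' P Q) := fun P Q => (exists_mulRel f σ hσ hg P Q).choose_spec
  { mul := mul'
    one := one' f σ hσ T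
    inv := fun P => (exists_inv f σ hσ hg P).choose
    mul_assoc := fun P Q R => by
      obtain ⟨b₁, h₁⟩ := hm P Q
      obtain ⟨b₂, h₂⟩ := hm Q R
      obtain ⟨b₃, h₃⟩ := hm (mul' P Q) R
      obtain ⟨b₄, h₄⟩ := hm P (mul' Q R)
      obtain ⟨c, hc⟩ := PicM.exists_mul_eq_one (b₂ * b₄)
      let q := PicM.pull (pullback.snd f T.hom)
      let e := cls f (one' f σ hσ T)
      refine point_unique f hg (R := mul' (mul' P Q) R) (R' := mul' P (mul' Q R)) (b := b₁ * b₃ * c) ?_
      have h5 : cls f (mul' P (mul' Q R)) * q (b₂ * b₄) * (e * e) = cls f (mul' (mul' P Q) R) * q (b₁ * b₃) * (e * e) := by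
        calc _ = (cls f (mul' P (mul' Q R)) * e * q b₄) * (e * q b₂) := by rw [map_mul]; ac_rfl
          _ = cls f P * (cls f (mul' Q R) * e * q b₂) := by rw [← h₄]; ac_rfl
          _ = cls f P * (cls f Q * cls f R) := by rw [← h₂]
          _ = (cls f P * cls f Q) * cls f R := by ac_rfl
          _ = (cls f (mul' P Q) * e * q b₁) * cls f R := by rw [h₁]
          _ = (cls f (mul' P Q) * cls f R) * (e * q b₁) := by ac_rfl
          _ = _ := by rw [h₃, map_mul]; simp only [e, q, mul_assoc, mul_left_comm, mul_comm]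
      have h6 := mul_right_cancel h5
      calc _ = cls f (mul' P (mul' Q R)) * q ((b₂ * b₄) * c) := by rw [hc, map_one, mul_one]
        _ = (cls f (mul' P (mul' Q R)) * q (b₂ * b₄)) * q c := by rw [map_mul, mul_assoc]
        _ = _ := by rw [h6, mul_assoc, ← map_mul]
    one_mul := fun P => MulRel.unique f σ hσ hg (hm (one' f σ hσ T) P) ⟨1, by rw [map_one, mul_one, mul_comm]⟩
    mul_one := fun P => MulRel.unique f σ hσ hg (hm P (one' f σ hσ T)) ⟨1, by rw [map_one, mul_one]⟩
    inv_mul_cancel := fun P => MulRel.unique f σ hσ hg (hm _ P) (exists_inv f σ hσ hg P).choose_spec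
    mul_comm := fun P Q => MulRel.unique f σ hσ hg (hm P Q) (by
      obtain ⟨b, hb⟩ := hm Q P
      exact ⟨b, by rw [mul_comm (cls f P)]; exact hb⟩) }

variable {f} in
theorem mulRel_pts_mul (hg : GenusOne f) (T : Over S) (P Q : T ⟶ Over.mk f) :
    MulRel f σ hσ P Q (letI := ptsGroup σ hσ hg T; ((show Pts f T from P) * (show Pts f T from Q) : Pts f T)) :=
  (exists_mulRel f σ hσ hg P Q).choose_spec

variable {f} in
/-- The functor of points as commutative groups. -/
noncomputable def ptsFunctor (hg : GenusOne f) : (Over S)ᵒᵖ ⥤ CommGrpCat.{u} where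
  obj T := letI := ptsGroup σ hσ hg T.unop; CommGrpCat.of (Pts f T.unop)
  map {T T'} g :=
    letI := ptsGroup σ hσ hg T.unop
    letI := ptsGroup σ hσ hg T'.unop
    CommGrpCat.ofHom (MonoidHom.mk' (fun P : Pts f T.unop => (g.unop ≫ P : T'.unop ⟶ Over.mk f)) fun P Q =>
      MulRel.unique f σ hσ hg ((mulRel_pts_mul σ hσ hg T.unop P Q).precomp f σ hσ g.unop)
        (mulRel_pts_mul σ hσ hg T'.unop _ _))
  map_id T := by
    letI := ptsGroup σ hσ hg T.unop
    apply CommGrpCat.hom_ext
    refine MonoidHom.ext ?_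
    intro P
    exact Category.id_comp (show T.unop ⟶ Over.mk f from P)
  map_comp {T T' T''} g g' := by
    letI := ptsGroup σ hσ hg T.unop
    letI := ptsGroup σ hσ hg T''.unop
    apply CommGrpCat.hom_ext
    refine MonoidHom.ext ?_
    intro P
    exact Category.assoc g'.unop g.unop (show T.unop ⟶ Over.mk f from P)

variable {f} in
/-- The points are represented by the family. -/
noncomputable def repr (hg : GenusOne f) : (ptsFunctor σ hσ hg ⋙ forget _).RepresentableBy (Over.mk f) where
  homEquiv := Equiv.refl _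
  homEquiv_comp _ _ := rfl

variable {f} in
/-- The group scheme structure. -/
noncomputable abbrev grp (hg : GenusOne f) : GrpObj (Over.mk f) :=
  GrpObj.ofRepresentableBy (Over.mk f) (ptsFunctor σ hσ hg ⋙ forget₂ CommGrpCat GrpCat) (repr σ hσ hg)

variable {f} in
theorem isCommMonObj_grp (hg : GenusOne f) :
    letI := grp σ hσ hg; IsCommMonObj (Over.mk f) :=
  IsCommMonObj.ofRepresentableBy (Over.mk f) (ptsFunctor σ hσ hg ⋙ forget₂ CommGrpCat CommMonCat) (repr σ hσ hg)

variable {f} in
theorem grp_mul (hg : GenusOne f) {T : Over S} (P Q : T ⟶ Over.mk f) :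
    letI := grp σ hσ hg
    MulRel f σ hσ P Q (P * Q) := by
  let _ := grp σ hσ hg
  have h : MulRel f σ hσ (lift P Q ≫ fst (Over.mk f) (Over.mk f)) (lift P Q ≫ snd (Over.mk f) (Over.mk f))
      (lift P Q ≫ μ) := (mulRel_pts_mul σ hσ hg _ (fst _ _) (snd _ _)).precomp f σ hσ (lift P Q)
  rwa [lift_fst, lift_snd] at h

variable {f} in
theorem grp_one (hg : GenusOne f) :
    letI := grp σ hσ hg
    η[Over.mk f] = one' f σ hσ (𝟙_ (Over S)) := rfl

variable {f} in
/-- The group law is determined by the relation. -/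
theorem grp_eq (hg : GenusOne f) (g : GrpObj (Over.mk f))
    (h : ∀ (T : Over S) (P Q : T ⟶ Over.mk f), letI := g; MulRel f σ hσ P Q (P * Q)) : g = grp σ hσ hg := by
  refine GrpObj.ext _ _ (MonObj.ext _ _ ?_)
  have h1 : MulRel f σ hσ (fst (Over.mk f) (Over.mk f)) (snd _ _)
      (lift (fst (Over.mk f) (Over.mk f)) (snd _ _) ≫ g.toMonObj.mul) := h _ _ _
  have h2 : MulRel f σ hσ (fst (Over.mk f) (Over.mk f)) (snd _ _)
      (lift (fst (Over.mk f) (Over.mk f)) (snd _ _) ≫ (grp σ hσ hg).toMonObj.mul) := grp_mul σ hσ hg _ _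
  have := MulRel.unique f σ hσ hg h1 h2
  rw [lift_fst_snd, Category.id_comp, Category.id_comp] at this
  exact this

end Groth.Agent.EllGrp5
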