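import Groth.Agent.ZeroSchLib.Basic
import Groth.Agent.FlatMor12.IdealModGen
import Groth.Agent.Inters29.PullIdeal
import Groth.Agent.Lef23.RegularSection
import Groth.Agent.Surf15.JetSections

/-!
# Zero schemes of sections of invertible modules and inverse images
-/

set_option autoImplicit false
set_option linter.style.haveILetI false
set_option backward.isDefEq.respectTransparency.types false

universe u

open CategoryTheory CategoryTheory.Limits AlgebraicGeometry Opposite TopologicalSpace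
open Groth.Agent.Coherent Groth.Agent.PicLib Groth.Agent.AmpleLib

namespace Groth.Agent.EllGrp5

variable {X Y : Scheme.{u}} {L : X.Modules}

/-- The zero scheme of a global section. -/
noncomputable def zeroOf (L : X.Modules) (t : Γ(L, ⊤)) : X.IdealSheafData :=
  PicF2.zeroScheme L (unitDesc L t)

theorem zeroOf_ideal (hL : PicF.IsInvertible L) (t : Γ(L, ⊤)) (U : X.affineOpens) {e : Γ(L, U.1)}
    (he : IsGen L U.1 e) :
    (zeroOf L t).ideal U = Ideal.span {he.coef le_rfl (resM L le_top t)} := by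
  rw [zeroOf, ZeroSchLib.zeroScheme_ideal_eq_span _ hL U he, unitVal_unitDesc]

theorem exists_affine_gen (hL : PicF.IsInvertible L) (x : X) :
    ∃ (U : X.affineOpens) (e : Γ(L, U.1)), x ∈ U.1 ∧ IsGen L U.1 e := by
  obtain ⟨W, hx, g, hg⟩ := exists_isGen hL x
  obtain ⟨V, hV, hxV, hVW⟩ := exists_isAffineOpen_mem_and_subset (x := x) (U := W) hx
  exact ⟨⟨V, hV⟩, _, hxV, hg.restrict (show V ≤ W from hVW)⟩

/-- The inverse image of a zero scheme is the zero scheme of the pulled back section. -/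
theorem comap_zeroOf (hL : PicF.IsInvertible L) (g : Y ⟶ X) (t : Γ(L, ⊤)) :
    (zeroOf L t).comap g =
      zeroOf ((Scheme.Modules.pullback g).obj L)
        (resM _ (show (⊤ : Y.Opens) ≤ g ⁻¹ᵁ ⊤ from le_top) (pullSec g t)) := by
  have hL' := PicLoc.isInvertible_pullback g hL
  have hloc : ∀ y : Y, ∃ (V : Y.affineOpens) (U : X.affineOpens) (e : Γ(L, U.1)) (_ : V.1 ≤ g ⁻¹ᵁ U.1),
      y ∈ V.1 ∧ IsGen L U.1 e := fun y => by
    obtain ⟨U, e, hyU, he⟩ := exists_affine_gen hL (g y)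
    obtain ⟨V, hV, hyV, hVU⟩ := exists_isAffineOpen_mem_and_subset (x := y) (U := g ⁻¹ᵁ U.1) hyU
    exact ⟨⟨V, hV⟩, U, e, hVU, hyV, he⟩
  choose V U e hVU hyV he using hloc
  refine Scheme.IdealSheafData.ext_of_iSup_eq_top V
    (top_le_iff.1 fun y _ => Opens.mem_iSup.2 ⟨y, hyV y⟩) fun y => ?_
  have he' := (isGen_pullSec g (he y) hL).restrict (hVU y)
  rw [ProjLib.comap_ideal_eq _ g (U y) (V y) (hVU y), zeroOf_ideal hL t (U y) (he y), Ideal.map_span,
    Set.image_singleton, zeroOf_ideal hL' _ (V y) he']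
  congr 2
  refine (he'.coef_eq le_rfl ?_).symm
  have h := congrArg (resM _ (hVU y)) (congrArg (pullSec g) ((he y).coef_spec le_rfl (resM L le_top t)))
  rw [resM_self, pullSec_smul, resM_smul, ← resM_pullSec g, resM_resM] at h
  rw [resM_self, resM_resM]
  exact h

theorem zeroOf_smul_isUnit (hL : PicF.IsInvertible L) {a : Γ(X, ⊤)} (ha : IsUnit a) (t : Γ(L, ⊤)) :
    zeroOf L (a • t) = zeroOf L t := by
  choose U e hxU he using exists_affine_gen hL
  refine Scheme.IdealSheafData.ext_of_iSup_eq_top U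
    (top_le_iff.1 fun y _ => Opens.mem_iSup.2 ⟨y, hxU y⟩) fun y => ?_
  rw [zeroOf_ideal hL _ (U y) (he y), zeroOf_ideal hL _ (U y) (he y)]
  have hc : (he y).coef le_rfl (resM L le_top (a • t)) =
      res (le_top : (U y).1 ≤ ⊤) a * (he y).coef le_rfl (resM L le_top t) := by
    refine (he y).coef_eq le_rfl ?_
    rw [resM_smul, mul_smul, (he y).coef_spec]
  rw [hc, Ideal.span_singleton_mul_left_unit (ha.map _)]

/-- An effective Cartier divisor is the zero scheme of a section of the module inverse to its ideal. -/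
theorem exists_section_eq (I : X.IdealSheafData) (hI : BlowUp.IsEffCartierIdeal I) (hL : PicF.IsInvertible L)
    (hLI : ClSub.IsInverseOf L (ClSub.idealMod I)) : ∃ t : Γ(L, ⊤), zeroOf L t = I := by
  classical
  obtain ⟨e⟩ := hLI
  have := mono_idealModι I
  have loc : ∀ x : X, ∃ (W : X.affineOpens) (l : Γ(L, W.1)) (k : Γ(ClSub.idealMod I, W.1)) (f : Γ(X, W.1)),
      x ∈ W.1 ∧ IsGen L W.1 l ∧ IsGen (ClSub.idealMod I) W.1 k ∧ (ClSub.idealModι I).app W.1 k = f ∧
        e.hom.app W.1 (tmul l k) = (1 : Γ(X, W.1)) ∧ I.ideal W = Ideal.span {f} := by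
    intro x
    obtain ⟨U, hxU, f, hf, hspan⟩ := hI x
    obtain ⟨k, hk⟩ := (mem_range_idealModι I U.1 f).2 (RingHom.mem_ker.1
      ((I.ker_subschemeι_app U).symm ▸ hspan.ge (Ideal.mem_span_singleton_self f)))
    have hreg : IsLeftRegular f := fun b c (h : f * b = f * c) => sub_eq_zero.1
      ((mem_nonZeroDivisors_iff.1 hf).2 _ (by rw [sub_mul, mul_comm b, mul_comm c, h, sub_self]))
    have hkgen := FlatMor12.IdealModGen.bijective_smul_of_affine_gen I U.2 hk hreg hspan
    obtain ⟨W₀, hxW₀, l₀, hl₀⟩ := exists_isGen hL x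
    obtain ⟨W, hW, hxW, hWle⟩ := exists_isAffineOpen_mem_and_subset (x := x) (U := U.1 ⊓ W₀) ⟨hxU, hxW₀⟩
    have hWU : W ≤ U.1 := le_trans hWle inf_le_left
    have hWW₀ : W ≤ W₀ := le_trans hWle inf_le_right
    have hl := hl₀.restrict hWW₀
    have hkW := hkgen.restrict hWU
    have hT := isGen_tmul hl hkW
    let u : Γ(X, W) := e.hom.app W (tmul (resM L hWW₀ l₀) (resM _ hWU k))
    have hu : IsUnit u := by
      obtain ⟨c, hc⟩ := (hT W le_rfl).2 (e.inv.app W (1 : Γ(X, W)))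
      have hc' : c • tmul (resM L hWW₀ l₀) (resM _ hWU k) = e.inv.app W (1 : Γ(X, W)) := by
        have hc2 : c • resM _ (le_refl W) (tmul (resM L hWW₀ l₀) (resM _ hWU k)) = _ := hc
        rwa [resM_self] at hc2
      have h2 := congrArg (e.hom.app W) hc'
      rw [Scheme.Modules.Hom.app_smul] at h2
      refine IsUnit.of_mul_eq_one_right c (h2.trans ?_)
      exact congr(($(e.inv_hom_id)).app W (1 : Γ(X, W)))
    obtain ⟨v, hv⟩ := hu.exists_left_inv
    have hvu : IsUnit v := IsUnit.of_mul_eq_one _ hv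
    refine ⟨⟨W, hW⟩, v • resM L hWW₀ l₀, resM _ hWU k, res hWU f, hxW, ?_,
      hkW, (app_resM _ _ k).trans (congrArg (resM _ hWU) hk), ?_, ?_⟩
    · have := hl.smul_unit hvu.unit
      rwa [IsUnit.unit_spec] at this
    · rw [tmul_smul_left, Scheme.Modules.Hom.app_smul]
      exact hv
    · rw [← I.map_ideal (U := ⟨W, hW⟩) (V := U) hWU, hspan, Ideal.map_span, Set.image_singleton]
      rfl
  choose W l k f hxW hl hk hkf he hideal using loc
  have hcov : (⊤ : X.Opens) ≤ ⨆ x, (W x).1 := fun x _ => Opens.mem_iSup.2 ⟨x, hxW x⟩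
  obtain ⟨s, hs, -⟩ := TopCat.Sheaf.existsUnique_gluing' (⟨L.presheaf, L.isSheaf⟩ : TopCat.Sheaf Ab X)
    (fun x => (W x).1) ⊤ (fun x => homOfLE le_top) hcov (fun x => f x • l x) fun i j => by
      show resM L (inf_le_left : (W i).1 ⊓ (W j).1 ≤ (W i).1) (f i • l i) =
        resM L (inf_le_right : (W i).1 ⊓ (W j).1 ≤ (W j).1) (f j • l j)
      obtain ⟨c, hc⟩ := (hk i _ (inf_le_left : (W i).1 ⊓ (W j).1 ≤ (W i).1)).2
        (resM _ (inf_le_right : (W i).1 ⊓ (W j).1 ≤ (W j).1) (k j))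
      obtain ⟨d, hd⟩ := (hl i _ (inf_le_left : (W i).1 ⊓ (W j).1 ≤ (W i).1)).2
        (resM _ (inf_le_right : (W i).1 ⊓ (W j).1 ≤ (W j).1) (l j))
      have hc' : c • resM _ (inf_le_left : (W i).1 ⊓ (W j).1 ≤ (W i).1) (k i) =
        resM _ (inf_le_right : (W i).1 ⊓ (W j).1 ≤ (W j).1) (k j) := hc
      have hd' : d • resM _ (inf_le_left : (W i).1 ⊓ (W j).1 ≤ (W i).1) (l i) =
        resM _ (inf_le_right : (W i).1 ⊓ (W j).1 ≤ (W j).1) (l j) := hd
      have hf1 := congrArg ((ClSub.idealModι I).app ((W i).1 ⊓ (W j).1)) hc'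
      rw [Scheme.Modules.Hom.app_smul, app_resM, app_resM, hkf, hkf] at hf1
      have hf2 : res (inf_le_right : (W i).1 ⊓ (W j).1 ≤ (W j).1) (f j) =
        c * res (inf_le_left : (W i).1 ⊓ (W j).1 ≤ (W i).1) (f i) := hf1.symm
      have h1 : d * c = 1 := by
        have h := congrArg (resM _ (inf_le_right : (W i).1 ⊓ (W j).1 ≤ (W j).1)) (he j)
        rw [← app_resM, resM_tmul, ← hc', ← hd', tmul_smul_smul, Scheme.Modules.Hom.app_smul, ← resM_tmul,
          app_resM, he] at h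
        have h' : (d * c) * res (inf_le_left : (W i).1 ⊓ (W j).1 ≤ (W i).1) (1 : Γ(X, (W i).1)) =
            res (inf_le_right : (W i).1 ⊓ (W j).1 ≤ (W j).1) (1 : Γ(X, (W j).1)) := h
        rwa [map_one, map_one, mul_one] at h'
      rw [resM_smul, resM_smul, ← hd']
      show _ = res (inf_le_right : (W i).1 ⊓ (W j).1 ≤ (W j).1) (f j) • d • _
      rw [hf2, ← mul_smul, show c * res (inf_le_left : (W i).1 ⊓ (W j).1 ≤ (W i).1) (f i) * d =
        (d * c) * res (inf_le_left : (W i).1 ⊓ (W j).1 ≤ (W i).1) (f i) by ring, h1, one_mul]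
  refine ⟨s, Scheme.IdealSheafData.ext_of_iSup_eq_top W
    (top_le_iff.1 fun x _ => Opens.mem_iSup.2 ⟨x, hxW x⟩) fun x => ?_⟩
  rw [zeroOf_ideal hL s (W x) (hl x), hideal]
  congr 2
  refine (hl x).coef_eq le_rfl ?_
  rw [resM_self]
  exact (hs x).symm

end Groth.Agent.EllGrp5
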