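import Groth.Agent.EllGrp5.Family

/-!
# Degree one classes on families of genus one curves and sections
-/

set_option autoImplicit false
set_option linter.style.haveILetI false
set_option linter.unusedSectionVars false
set_option backward.isDefEq.respectTransparency.types false

universe u

open CategoryTheory CategoryTheory.Limits AlgebraicGeometry Opposite TopologicalSpace
open Groth.Agent.Coherent Groth.Agent.PicLib Groth.Agent.AmpleLib

namespace Groth.Agent.EllGrp5

variable {X S : Scheme.{u}} (f : X ⟶ S)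

scoped instance smoothRD_snd [SmoothOfRelativeDimension 1 f] {T : Scheme.{u}} (j : T ⟶ S) :
    SmoothOfRelativeDimension 1 (pullback.snd f j) :=
  haveI := smoothOfRelativeDimension_isStableUnderBaseChange.{u} 1
  MorphismProperty.pullback_snd (P := @SmoothOfRelativeDimension 1) _ _ inferInstance

scoped instance geomConn_snd [GeometricallyConnected f] {T : Scheme.{u}} (j : T ⟶ S) :
    GeometricallyConnected (pullback.snd f j) :=
  MorphismProperty.pullback_snd (P := @GeometricallyConnected) _ _ inferInstance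

theorem exists_trivial_nhd (b : PicM S) (s : S) : ∃ W : S.Opens, s ∈ W ∧ PicM.pull W.ι b = 1 := by
  obtain ⟨L, hL, rfl⟩ := PicM.exists_eq_of b
  obtain ⟨U, hs, ⟨e⟩⟩ := hL s
  refine ⟨U, hs, ?_⟩
  rw [PicM.pull_of, PicM.of_eq_one_iff]
  exact ⟨((Scheme.Modules.restrictFunctorIsoPullback U.ι).app L).symm ≪≫ e⟩

theorem pull_eq_one_of_le {b : PicM S} {U W : S.Opens} (h : W ≤ U) (hb : PicM.pull U.ι b = 1) :
    PicM.pull W.ι b = 1 := by
  rw [← Scheme.homOfLE_ι S h, ← PicM.pull_pull, hb, map_one]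

theorem eq_of_ker_eq [IsSeparated f] {P P' : S ⟶ X} (hP : P ≫ f = 𝟙 S) (hP' : P' ≫ f = 𝟙 S)
    (h : P.ker = P'.ker) : P = P' := by
  haveI := isClosedImmersion_section f P hP
  have hl := IsClosedImmersion.lift_fac P P' h.le
  have : IsClosedImmersion.lift P P' h.le = 𝟙 S := by
    have h2 := congrArg (fun x => x ≫ f) hl
    simp only [Category.assoc, hP, hP', Category.comp_id] at h2
    exact h2
  rw [this, Category.id_comp] at hl
  exact hl

variable [IsProper f] [SmoothOfRelativeDimension 1 f] [GeometricallyConnected f]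

/-- `a ⊗ I_P` comes from the base. -/
def Rel (a : PicM X) (P : S ⟶ X) (hP : P ≫ f = 𝟙 S) : Prop :=
  ∃ b : PicM S, a * idl f P hP = PicM.pull f b

variable {f} in
theorem Rel.baseChange {a : PicM X} {P : S ⟶ X} {hP : P ≫ f = 𝟙 S} (hr : Rel f a P hP) {T XT : Scheme.{u}}
    {g : T ⟶ S} {g' : XT ⟶ X} {f' : XT ⟶ T} [IsProper f'] [SmoothOfRelativeDimension 1 f']
    [GeometricallyConnected f'] (h : IsPullback g' f' f g) (P' : T ⟶ XT) (hP' : P' ≫ f' = 𝟙 T)
    (e : P' ≫ g' = g ≫ P) : Rel f' (PicM.pull g' a) P' hP' := by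
  obtain ⟨b, hb⟩ := hr
  refine ⟨PicM.pull g b, ?_⟩
  rw [← pull_idl f h P hP P' hP' e, ← map_mul, hb, PicM.pull_pull, h.w, ← PicM.pull_pull]

variable {f} in
theorem exists_genSec_of_trivial {N : X.Modules} (hN : PicF.IsInvertible N) (hd : DegOne f N) (W : S.Opens)
    (hW : haveI := smooth_f f; PicM.pull W.ι (PicM.of (isInvertible_push f hN hd)) = 1) :
    ∃ t, GenSec (pullback.snd f W.ι) ((Scheme.Modules.pullback (pullback.fst f W.ι)).obj N) t := by
  haveI := smooth_f f
  have hsq : IsPullback (pullback.fst f W.ι) (pullback.snd f W.ι) f W.ι := IsPullback.of_hasPullback _ _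
  rw [PicM.pull_of, PicM.of_eq_one_iff] at hW
  obtain ⟨e⟩ := hW
  haveI := isIso_bc0 f hN hd hsq
  exact exists_genSec (pullback.snd f W.ι) (e.symm ≪≫ asIso (CohBC.bc0 f W.ι _ _ hsq.w N))

variable {f} in
/-- Uniqueness of the section. -/
theorem Rel.unique (hg : GenusOne f) {N : X.Modules} (hN : PicF.IsInvertible N) (hd : DegOne f N) {P P' : S ⟶ X}
    {hP : P ≫ f = 𝟙 S} {hP' : P' ≫ f = 𝟙 S} (h : Rel f (PicM.of hN) P hP) (h' : Rel f (PicM.of hN) P' hP') :
    P = P' := by
  haveI := smooth_f f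
  obtain ⟨b, hb⟩ := h
  obtain ⟨b', hb'⟩ := h'
  have hloc : ∀ s : S, ∃ W : S.Opens, s ∈ W ∧ PicM.pull W.ι b = 1 ∧ PicM.pull W.ι b' = 1 ∧
      PicM.pull W.ι (PicM.of (isInvertible_push f hN hd)) = 1 := fun s => by
    obtain ⟨W₁, h1, e1⟩ := exists_trivial_nhd b s
    obtain ⟨W₂, h2, e2⟩ := exists_trivial_nhd b' s
    obtain ⟨W₃, h3, e3⟩ := exists_trivial_nhd (PicM.of (isInvertible_push f hN hd)) s
    exact ⟨W₁ ⊓ (W₂ ⊓ W₃), ⟨h1, h2, h3⟩, pull_eq_one_of_le inf_le_left e1,
      pull_eq_one_of_le (inf_le_right.trans inf_le_left) e2, pull_eq_one_of_le (inf_le_right.trans inf_le_right) e3⟩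
  choose W hsW hWb hWb' hWR using hloc
  refine Scheme.Cover.hom_ext (S.openCoverOfIsOpenCover W
    (top_le_iff.1 fun s _ => Opens.mem_iSup.2 ⟨s, hsW s⟩)) _ _ fun s => ?_
  show (W s).ι ≫ P = (W s).ι ≫ P'
  have hsq : IsPullback (pullback.fst f (W s).ι) (pullback.snd f (W s).ι) f (W s).ι := IsPullback.of_hasPullback _ _
  let Q : (W s).toScheme ⟶ pullback f (W s).ι :=
    pullback.lift ((W s).ι ≫ P) (𝟙 _) (by rw [Category.assoc, hP, Category.comp_id, Category.id_comp])
  let Q' : (W s).toScheme ⟶ pullback f (W s).ι :=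
    pullback.lift ((W s).ι ≫ P') (𝟙 _) (by rw [Category.assoc, hP', Category.comp_id, Category.id_comp])
  have hQ : Q ≫ pullback.snd f (W s).ι = 𝟙 _ := pullback.lift_snd _ _ _
  have hQ' : Q' ≫ pullback.snd f (W s).ι = 𝟙 _ := pullback.lift_snd _ _ _
  have k : PicM.of (PicLoc.isInvertible_pullback (pullback.fst f (W s).ι) hN) * idl _ Q hQ = 1 := by
    rw [← PicM.pull_of (pullback.fst f (W s).ι) hN, ← pull_idl f hsq P hP Q hQ (pullback.lift_fst _ _ _), ← map_mul, hb, PicM.pull_pull,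
      hsq.w, ← PicM.pull_pull, hWb, map_one]
  have k' : PicM.of (PicLoc.isInvertible_pullback (pullback.fst f (W s).ι) hN) * idl _ Q' hQ' = 1 := by
    rw [← PicM.pull_of (pullback.fst f (W s).ι) hN, ← pull_idl f hsq P' hP' Q' hQ' (pullback.lift_fst _ _ _), ← map_mul, hb', PicM.pull_pull,
      hsq.w, ← PicM.pull_pull, hWb', map_one]
  obtain ⟨t, ht⟩ := exists_genSec_of_trivial hN hd (W s) (hWR s)
  have hQQ : Q = Q' := eq_of_ker_eq (pullback.snd f (W s).ι) hQ hQ'
    ((ht.ker_eq (hg.baseChange hsq) _ (hd.baseChange hN hsq) Q hQ k).trans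
      (ht.ker_eq (hg.baseChange hsq) _ (hd.baseChange hN hsq) Q' hQ' k').symm)
  exact (pullback.lift_fst _ _ _).symm.trans
    ((congrArg (fun x => x ≫ pullback.fst f (W s).ι) hQQ).trans (pullback.lift_fst _ _ _))

/-- The section over a test scheme attached to a point. -/
noncomputable def ptSec {T : Scheme.{u}} (j : T ⟶ S) (y : T ⟶ X) (hy : y ≫ f = j) : T ⟶ pullback f j :=
  pullback.lift y (𝟙 T) (by rw [hy, Category.id_comp])

theorem ptSec_snd {T : Scheme.{u}} (j : T ⟶ S) (y : T ⟶ X) (hy : y ≫ f = j) :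
    ptSec f j y hy ≫ pullback.snd f j = 𝟙 T := pullback.lift_snd _ _ _

theorem ptSec_fst {T : Scheme.{u}} (j : T ⟶ S) (y : T ⟶ X) (hy : y ≫ f = j) :
    ptSec f j y hy ≫ pullback.fst f j = y := pullback.lift_fst _ _ _

/-- `a ⊗ I_y` comes from `T`, for a `T`-valued point `y`. -/
def RelPt (a : PicM X) {T : Scheme.{u}} (j : T ⟶ S) (y : T ⟶ X) (hy : y ≫ f = j) : Prop :=
  Rel (pullback.snd f j) (PicM.pull (pullback.fst f j) a) (ptSec f j y hy) (ptSec_snd f j y hy)

variable {f} in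
theorem RelPt.precomp {a : PicM X} {T T' : Scheme.{u}} {j : T ⟶ S} {y : T ⟶ X} {hy : y ≫ f = j}
    (hr : RelPt f a j y hy) (h : T' ⟶ T) {j' : T' ⟶ S} {y' : T' ⟶ X} (hj : h ≫ j = j') (hyy : h ≫ y = y') :
    RelPt f a j' y' (by rw [← hyy, Category.assoc, hy, hj]) := by
  subst hj hyy
  let g' : pullback f (h ≫ j) ⟶ pullback f j :=
    pullback.lift (pullback.fst f (h ≫ j)) (pullback.snd f (h ≫ j) ≫ h) (by rw [Category.assoc]; exact pullback.condition)
  have hsq : IsPullback g' (pullback.snd f (h ≫ j)) (pullback.snd f j) h :=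
    IsPullback.of_right (by rw [pullback.lift_fst]; exact IsPullback.of_hasPullback f (h ≫ j))
      (pullback.lift_snd _ _ _) (IsPullback.of_hasPullback f j)
  have := Rel.baseChange hr hsq (ptSec f (h ≫ j) (h ≫ y) (by rw [Category.assoc, hy])) (ptSec_snd _ _ _ _) (by
    apply pullback.hom_ext
    · simp only [g', Category.assoc, pullback.lift_fst]
      exact (ptSec_fst _ _ _ _).trans (congrArg (h ≫ ·) (ptSec_fst f j y hy)).symm
    · simp only [g', Category.assoc, pullback.lift_snd]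
      refine ((Category.assoc _ _ _).symm.trans (congrArg (· ≫ h) (ptSec_snd _ _ _ _))).trans ?_
      exact (Category.id_comp h).trans ((Category.comp_id h).symm.trans (congrArg (h ≫ ·) (ptSec_snd f j y hy).symm)))
  rw [PicM.pull_pull, pullback.lift_fst] at this
  exact this

variable {f} in
theorem RelPt.unique (hg : GenusOne f) {N : X.Modules} (hN : PicF.IsInvertible N) (hd : DegOne f N)
    {T : Scheme.{u}} {j : T ⟶ S} {y y' : T ⟶ X} {hy : y ≫ f = j} {hy' : y' ≫ f = j}
    (h : RelPt f (PicM.of hN) j y hy) (h' : RelPt f (PicM.of hN) j y' hy') : y = y' := by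
  have hsq : IsPullback (pullback.fst f j) (pullback.snd f j) f j := IsPullback.of_hasPullback _ _
  have := Rel.unique (hg.baseChange hsq) (PicLoc.isInvertible_pullback (pullback.fst f j) hN)
    (hd.baseChange hN hsq) (P := ptSec f j y hy) (P' := ptSec f j y' hy') h h'
  exact (ptSec_fst f j y hy).symm.trans
    ((congrArg (fun x => x ≫ pullback.fst f j) this).trans (ptSec_fst f j y' hy'))

variable {f} in
/-- A class of degree one is the class of a section, up to the base. -/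
theorem exists_rel (hg : GenusOne f) {N : X.Modules} (hN : PicF.IsInvertible N) (hd : DegOne f N) :
    ∃ (P : S ⟶ X) (hP : P ≫ f = 𝟙 S), Rel f (PicM.of hN) P hP := by
  haveI := smooth_f f
  choose W hsW hWR using exists_trivial_nhd (PicM.of (isInvertible_push f hN hd))
  have hsq : ∀ s : S, IsPullback (pullback.fst f (W s).ι) (pullback.snd f (W s).ι) f (W s).ι :=
    fun s => IsPullback.of_hasPullback _ _
  have hloc : ∀ s : S, ∃ (Q : (W s).toScheme ⟶ pullback f (W s).ι) (hQ : Q ≫ pullback.snd f (W s).ι = 𝟙 _),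
      PicM.of (PicLoc.isInvertible_pullback (pullback.fst f (W s).ι) hN) * idl _ Q hQ = 1 := fun s => by
    obtain ⟨t, ht⟩ := exists_genSec_of_trivial hN hd (W s) (hWR s)
    obtain ⟨Q, hQ, -, hQ'⟩ := ht.exists_section (hg.baseChange (hsq s))
      (PicLoc.isInvertible_pullback (pullback.fst f (W s).ι) hN) (hd.baseChange hN (hsq s))
    exact ⟨Q, hQ, hQ'⟩
  choose Q hQ hQ' using hloc
  let y : ∀ s : S, (W s).toScheme ⟶ X := fun s => Q s ≫ pullback.fst f (W s).ι
  have hy : ∀ s, y s ≫ f = (W s).ι := fun s => by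
    rw [Category.assoc, pullback.condition, ← Category.assoc, hQ, Category.id_comp]
  have hQs : ∀ s, ptSec f (W s).ι (y s) (hy s) = Q s := fun s =>
    pullback.hom_ext (ptSec_fst _ _ _ _) ((ptSec_snd _ _ _ _).trans (hQ s).symm)
  have hrel : ∀ s, RelPt f (PicM.of hN) (W s).ι (y s) (hy s) := fun s => by
    refine ⟨1, ?_⟩
    simp only [hQs, map_one]
    exact hQ' s
  let 𝒰 := S.openCoverOfIsOpenCover W (top_le_iff.1 fun s _ => Opens.mem_iSup.2 ⟨s, hsW s⟩)
  let P : S ⟶ X := 𝒰.glueMorphisms y fun a b =>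
    RelPt.unique hg hN hd ((hrel a).precomp (pullback.fst (W a).ι (W b).ι) rfl rfl)
      ((hrel b).precomp (pullback.snd (W a).ι (W b).ι) pullback.condition.symm rfl)
  have hPy : ∀ s, (W s).ι ≫ P = y s := fun s => 𝒰.ι_glueMorphisms _ _ s
  have hP : P ≫ f = 𝟙 S := 𝒰.hom_ext _ _ fun s => by
    show (W s).ι ≫ P ≫ f = (W s).ι ≫ 𝟙 S
    rw [← Category.assoc, hPy, hy, Category.comp_id]
  refine ⟨P, hP, ?_⟩
  obtain ⟨L, hL, hc⟩ := PicM.exists_eq_of (PicM.of hN * idl f P hP)
  have hgen : ∀ s : S, ∃ t : Γ(L, f ⁻¹ᵁ W s), IsGen L _ t := fun s => by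
    have h1 : PicM.pull (pullback.fst f (W s).ι) (PicM.of hL) = 1 := by
      rw [← hc, map_mul, pull_idl f (hsq s) P hP (Q s) (hQ s) (hPy s).symm, PicM.pull_of]
      exact hQ' s
    have hres := isPullback_morphismRestrict f (W s)
    have h2 : PicM.pull (f ⁻¹ᵁ W s).ι (PicM.of hL) = 1 := by
      rw [← hres.flip.isoPullback_hom_fst, ← PicM.pull_pull, h1, map_one]
    rw [PicM.pull_of, PicM.of_eq_one_iff] at h2
    obtain ⟨e⟩ := h2
    exact exists_isGen_of_iso (((Scheme.Modules.restrictFunctorIsoPullback (f ⁻¹ᵁ W s).ι).app L) ≪≫ e)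
  obtain ⟨hG, hiso⟩ := CubeLib.isInvertible_push_and_isIso_counit (f := f) (L := L) fun s =>
    ⟨W s, hsW s, fun V _ => FlatMor12.Cube.isIso_app_of_scalar f (Clifford24.bijective_algebraMap_smooth_fibre f) V,
      hgen s⟩
  refine ⟨PicM.of hG, ?_⟩
  rw [hc, PicM.pull_of]
  exact (PicM.of_eq_iff hL _).2 ⟨(asIso ((Scheme.Modules.pullbackPushforwardAdjunction f).counit.app L)).symm⟩

end Groth.Agent.EllGrp5
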